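import Mathlib
import Cfsg.Prelude.Def_JComponents
import Cfsg.Agent.Lib.Helper11.ThompsonSylow
import Cfsg.Agent.Lib.Helper53.Basic
import Cfsg.Agent.Lib.Helper55.JComp
import Cfsg.Agent.Lib.Helper85.KS12.S2949Core
import Cfsg.Agent.Lib.Helper91.ThompsonFpf2

/-!
# Core of S2948 (K-S 12.3: maximal straddling 2-subgroups and 2-locals not in `M`)

Everything in S2948 except the existence of a `J(T)`-component inside `L ∈ jOvergroups T`.
-/

set_option autoImplicit false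

namespace Cfsg.Agent.Lib.Helper97.KS12

open Cfsg Cfsg.Agent.Lib.Helper11

universe u

variable {G : Type u} [Group G]

/-- `maxElemAbelianOrder T` is the order of any member of `maxElemAbIn 2 T`. -/
theorem maxElemAbelianOrder_eq [Finite G] {T A : Subgroup G} (hA : A ∈ maxElemAbIn 2 T) :
    maxElemAbelianOrder T = Nat.card A := by
  unfold maxElemAbelianOrder
  rw [← image_maxElemAb] at hA
  obtain ⟨A', hA', rfl⟩ := hA
  have hset : (fun B : Subgroup ↥T => Nat.card ↥B) '' maxElementaryAbelianSubgroups 2 ↥T =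
      {Nat.card A'} := by
    ext n
    constructor
    · rintro ⟨B, hB, rfl⟩
      exact Set.mem_singleton_iff.mpr (le_antisymm (hA'.2 B hB.1) (hB.2 A' hA'.1))
    · intro hn
      rw [Set.mem_singleton_iff] at hn
      subst hn
      exact ⟨A', hA', rfl⟩
  rw [hset, csSup_singleton, Subgroup.card_map_of_injective T.subtype_injective]

/-- If `J(T) ≤ T₁` then `m(T) ≤ m(T₁)`. -/
theorem maxElemAbelianOrder_le_of_thompson_le [Finite G] {T T₁ : Subgroup G}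
    (hJ : thompsonSubgroupOf 2 T ≤ T₁) : maxElemAbelianOrder T ≤ maxElemAbelianOrder T₁ := by
  obtain ⟨A, hA⟩ := maxElemAbIn_nonempty 2 T
  obtain ⟨A₁, hA₁⟩ := maxElemAbIn_nonempty 2 T₁
  rw [maxElemAbelianOrder_eq hA, maxElemAbelianOrder_eq hA₁]
  exact hA₁.2.2 A ((le_thompsonSubgroupOf hA).trans hJ) hA.2.1

/-- If `J(T) ≤ T₁` and `m(T₁) ≤ m(T)` then `J(T) ≤ J(T₁)`. -/
theorem thompson_le_thompson_of_le [Finite G] {T T₁ : Subgroup G}
    (hJ : thompsonSubgroupOf 2 T ≤ T₁) (hm : maxElemAbelianOrder T₁ ≤ maxElemAbelianOrder T) :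
    thompsonSubgroupOf 2 T ≤ thompsonSubgroupOf 2 T₁ := by
  obtain ⟨A₁, hA₁⟩ := maxElemAbIn_nonempty 2 T₁
  conv_lhs => rw [thompsonSubgroupOf_eq]
  rw [sSup_le_iff]
  intro A hA
  apply le_thompsonSubgroupOf
  refine ⟨(le_thompsonSubgroupOf hA).trans hJ, hA.2.1, fun B hB hBe => ?_⟩
  have h1 := hA₁.2.2 B hB hBe
  rw [maxElemAbelianOrder_eq hA, maxElemAbelianOrder_eq hA₁] at hm
  exact h1.trans hm

/-- The basic use of lexicographic maximality: a straddling 2-subgroup `T₁` containing `J(T)`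
has `J(T₁) = J(T)` and `|T₁| ≤ |T|`. -/
theorem straddle_key [Finite G] {M T T₁ : Subgroup G} (hT : T ∈ maxStraddlingTwoSubgroups M)
    (h1 : T₁ ∈ straddlingTwoSubgroups M) (hJ : thompsonSubgroupOf 2 T ≤ T₁) :
    thompsonSubgroupOf 2 T₁ = thompsonSubgroupOf 2 T ∧ Nat.card T₁ ≤ Nat.card T := by
  obtain ⟨hm1, hm2⟩ := hT.2 T₁ h1
  have hm : maxElemAbelianOrder T₁ = maxElemAbelianOrder T :=
    le_antisymm hm1 (maxElemAbelianOrder_le_of_thompson_le hJ)
  obtain ⟨hc1, hc2⟩ := hm2 hm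
  have hle := thompson_le_thompson_of_le hJ hm.le
  have heq : thompsonSubgroupOf 2 T = thompsonSubgroupOf 2 T₁ :=
    Subgroup.eq_of_le_of_card_ge hle hc1
  exact ⟨heq.symm, hc2 (by rw [heq])⟩

/-- `N_G(J(T)) ≤ M` for `T ∈ maxStraddlingTwoSubgroups M`, when `N_G(J(S)) ≤ M` for a Sylow
2-subgroup `S` of `G`. -/
theorem normalizer_thompson_le [Finite G] (S : Sylow 2 G) {M T : Subgroup G}
    (hMJ : Subgroup.normalizer (thompsonSubgroupOf 2 (S : Subgroup G) : Set G) ≤ M)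
    (hT : T ∈ maxStraddlingTwoSubgroups M) :
    Subgroup.normalizer (thompsonSubgroupOf 2 T : Set G) ≤ M := by
  have : Fact (Nat.Prime 2) := ⟨Nat.prime_two⟩
  obtain ⟨hT2, hTne, hTM, -⟩ := hT.1
  have hSM : (S : Subgroup G) ≤ M :=
    (Subgroup.le_normalizer.trans (normalizer_le_normalizer_thompsonSubgroupOf 2 _)).trans hMJ
  obtain ⟨n, hnM, hn⟩ := Cfsg.Agent.Lib.Helper53.exists_conj_le_sylow_of_le S hSM hTM hT2
  have hTS' : T ≤ ((n⁻¹ • S : Sylow 2 G) : Subgroup G) := by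
    intro t ht
    rw [mem_sylow_smul_iff', inv_inv]
    exact hn t ht
  have hS'M : ((n⁻¹ • S : Sylow 2 G) : Subgroup G) ≤ M := by
    intro x hx
    rw [mem_sylow_smul_iff', inv_inv] at hx
    have h1 := hSM hx
    have h2 : x = n⁻¹ * (n * x * n⁻¹) * n := by group
    rw [h2]
    exact M.mul_mem (M.mul_mem (M.inv_mem hnM) h1) hnM
  have hNS' : Subgroup.normalizer
      (thompsonSubgroupOf 2 ((n⁻¹ • S : Sylow 2 G) : Subgroup G) : Set G) ≤ M := by
    intro g hg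
    rw [thompsonSubgroupOf_smul n⁻¹ S] at hg
    have h1 : n * g * n⁻¹ ∈
        Subgroup.normalizer (thompsonSubgroupOf 2 (S : Subgroup G) : Set G) := by
      rw [Subgroup.mem_normalizer_iff] at hg ⊢
      intro h
      have h0 := hg (n⁻¹ * h * n)
      rw [mem_map_conj_iff', mem_map_conj_iff', inv_inv] at h0
      have e1 : n * (n⁻¹ * h * n) * n⁻¹ = h := by group
      have e2 : n * (g * (n⁻¹ * h * n) * g⁻¹) * n⁻¹ = n * g * n⁻¹ * h * (n * g * n⁻¹)⁻¹ := by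
        group
      rw [e1, e2] at h0
      exact h0
    have h2 := hMJ h1
    have h3 : g = n⁻¹ * (n * g * n⁻¹) * n := by group
    rw [h3]
    exact M.mul_mem (M.mul_mem (M.inv_mem hnM) h2) hnM
  by_contra hNM
  have hJT : thompsonSubgroupOf 2 T ≤ T := thompsonSubgroupOf_le 2 T
  have hJ2 : IsPGroup 2 (thompsonSubgroupOf 2 T) := hT2.to_le hJT
  have hJne : thompsonSubgroupOf 2 T ≠ ⊥ :=
    Cfsg.Agent.Lib.Helper91.thompsonSubgroupOf_ne_bot T hT2 hTne
  have hN2 : IsTwoLocal (Subgroup.normalizer (thompsonSubgroupOf 2 T : Set G)) :=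
    ⟨_, hJ2, hJne, rfl⟩
  have hTN : T ≤ Subgroup.normalizer (thompsonSubgroupOf 2 T : Set G) :=
    Subgroup.le_normalizer.trans (normalizer_le_normalizer_thompsonSubgroupOf 2 T)
  have hTT₁ : T ≤ ((n⁻¹ • S : Sylow 2 G) : Subgroup G) ⊓
      Subgroup.normalizer (thompsonSubgroupOf 2 T : Set G) := le_inf hTS' hTN
  have hT₁2 : IsPGroup 2 ↥(((n⁻¹ • S : Sylow 2 G) : Subgroup G) ⊓
      Subgroup.normalizer (thompsonSubgroupOf 2 T : Set G)) :=
    (n⁻¹ • S : Sylow 2 G).isPGroup'.to_le inf_le_left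
  have hT₁s : ((n⁻¹ • S : Sylow 2 G) : Subgroup G) ⊓
      Subgroup.normalizer (thompsonSubgroupOf 2 T : Set G) ∈ straddlingTwoSubgroups M :=
    ⟨hT₁2, fun h => hTne (le_bot_iff.mp (h ▸ hTT₁)), inf_le_left.trans hS'M, _, hN2,
      inf_le_right, hNM⟩
  obtain ⟨hJeq, hcard⟩ := straddle_key hT hT₁s (hJT.trans hTT₁)
  have hTeq := Subgroup.eq_of_le_of_card_ge hTT₁ hcard
  have hTS : T = ((n⁻¹ • S : Sylow 2 G) : Subgroup G) := by
    by_contra hne
    have hlt : T < ((n⁻¹ • S : Sylow 2 G) : Subgroup G) := lt_of_le_of_ne hTS' hne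
    obtain ⟨x, hxS, hxT, hxN⟩ :=
      Cfsg.Agent.Lib.Helper53.exists_mem_normalizer_not_mem (n⁻¹ • S : Sylow 2 G).isPGroup' hlt
    apply hxT
    rw [hTeq]
    exact ⟨hxS, normalizer_le_normalizer_thompsonSubgroupOf 2 T hxN⟩
  apply hNM
  rw [hTS]
  exact hNS'

/-- The first three claims of S2948 (plus `|T₀| ≤ |T|`). -/
theorem s2948_part [Finite G] (hL : IsCharacteristicTwoType G) (S : Sylow 2 G) (M : Subgroup G)
    (hMJ : Subgroup.normalizer (thompsonSubgroupOf 2 (S : Subgroup G) : Set G) ≤ M)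
    (T : Subgroup G) (hT : T ∈ maxStraddlingTwoSubgroups M)
    (L : Subgroup G) (hL2 : IsTwoLocal L) (hLM : ¬ L ≤ M) (T₀ : Subgroup G)
    (hT₀ : IsSylowTwoIn T₀ L) (hJT₀ : thompsonSubgroupOf 2 T ≤ T₀) :
    thompsonSubgroupOf 2 T₀ = thompsonSubgroupOf 2 T ∧ T₀ ∈ straddlingTwoSubgroups M ∧
      L ∈ jOvergroups T₀ ∧ Nat.card T₀ ≤ Nat.card T := by
  have : Fact (Nat.Prime 2) := ⟨Nat.prime_two⟩
  have hNJ := normalizer_thompson_le S hMJ hT
  obtain ⟨hT2, hTne, hTM, -⟩ := hT.1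
  obtain ⟨hT₀L, hT₀2, hodd⟩ := hT₀
  have hJT : thompsonSubgroupOf 2 T ≤ T := thompsonSubgroupOf_le 2 T
  have hJne : thompsonSubgroupOf 2 T ≠ ⊥ :=
    Cfsg.Agent.Lib.Helper91.thompsonSubgroupOf_ne_bot T hT2 hTne
  have hJT₁ : thompsonSubgroupOf 2 T ≤
      T₀ ⊓ Subgroup.normalizer (thompsonSubgroupOf 2 T : Set G) :=
    le_inf hJT₀ Subgroup.le_normalizer
  have hT₁s : T₀ ⊓ Subgroup.normalizer (thompsonSubgroupOf 2 T : Set G) ∈
      straddlingTwoSubgroups M :=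
    ⟨hT₀2.to_le inf_le_left, fun h => hJne (le_bot_iff.mp (h ▸ hJT₁)), inf_le_right.trans hNJ,
      L, hL2, inf_le_left.trans hT₀L, hLM⟩
  obtain ⟨hJeq, hcard⟩ := straddle_key hT hT₁s hJT₁
  have hT₁eq : T₀ ⊓ Subgroup.normalizer (thompsonSubgroupOf 2 T : Set G) = T₀ := by
    by_contra hne
    have hlt : T₀ ⊓ Subgroup.normalizer (thompsonSubgroupOf 2 T : Set G) < T₀ :=
      lt_of_le_of_ne inf_le_left hne
    obtain ⟨x, hxS, hxT, hxN⟩ :=
      Cfsg.Agent.Lib.Helper53.exists_mem_normalizer_not_mem hT₀2 hlt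
    apply hxT
    refine ⟨hxS, ?_⟩
    have h1 := normalizer_le_normalizer_thompsonSubgroupOf 2 _ hxN
    rwa [hJeq] at h1
  rw [hT₁eq] at hJeq hcard hT₁s
  refine ⟨hJeq, hT₁s, ⟨⟨hT₀L, hT₀2, hodd⟩, ?_, ?_⟩, hcard⟩
  · intro hle
    apply hLM
    have hQT₀ : pCoreOf 2 L ≤ T₀ :=
      Cfsg.Agent.Lib.Helper55.JComp.pCoreOf_le ⟨hT₀L, hT₀2, hodd⟩
    have hJQ : thompsonSubgroupOf 2 (pCoreOf 2 L) = thompsonSubgroupOf 2 T₀ :=
      thompsonSubgroupOf_eq_of_le hQT₀ hle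
    have h1 : L ≤ Subgroup.normalizer ((pCoreOf 2 L : Subgroup G) : Set G) :=
      Cfsg.Agent.Lib.Helper55.JComp.le_normalizer_pCoreOf L
    have h2 := normalizer_le_normalizer_thompsonSubgroupOf 2 (pCoreOf 2 L)
    rw [hJQ, hJeq] at h2
    exact (h1.trans h2).trans hNJ
  · obtain ⟨P, hP2, hPne, rfl⟩ := hL2
    have hchar := hL.2 P hP2 hPne
    unfold IsOfCharacteristicTwo at hchar
    have hPQ : P ≤ pCoreOf 2 (Subgroup.normalizer (P : Set G)) :=
      Cfsg.Agent.Lib.Helper85.KS12.le_pCoreOf_of_normal hP2 Subgroup.le_normalizer le_rfl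
    intro g hg
    have hgN : g ∈ Subgroup.normalizer (P : Set G) := by
      rw [Subgroup.mem_normalizer_iff]
      intro x
      constructor
      · intro hx
        have h0 := hg x (hPQ hx)
        have e : g * x * g⁻¹ = x := by rw [← h0]; group
        rw [e]; exact hx
      · intro hx
        have h0 := hg _ (hPQ hx)
        have e : x = g * x * g⁻¹ := by
          have h00 : g * x = g * (g * x * g⁻¹) := by rw [← h0]; group
          exact mul_left_cancel h00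
        rw [e]; exact hx
    have h1 : (⟨g, hgN⟩ : ↥(Subgroup.normalizer (P : Set G))) ∈
        Subgroup.centralizer
          (pCore 2 ↥(Subgroup.normalizer (P : Set G)) : Set ↥(Subgroup.normalizer (P : Set G))) := by
      intro y hy
      apply Subtype.ext
      exact hg y.1 ⟨y, hy, rfl⟩
    exact ⟨⟨g, hgN⟩, hchar h1, rfl⟩

/-- **Core of S2948**: everything except the existence of a `J(T)`-component. -/
theorem s2948_core [Finite G] (hL : IsCharacteristicTwoType G) (S : Sylow 2 G) (M : Subgroup G)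
    (hMJ : Subgroup.normalizer (thompsonSubgroupOf 2 (S : Subgroup G) : Set G) ≤ M)
    (T : Subgroup G) (hT : T ∈ maxStraddlingTwoSubgroups M)
    (L : Subgroup G) (hL2 : IsTwoLocal L) (hLM : ¬ L ≤ M) (T₀ : Subgroup G)
    (hT₀ : IsSylowTwoIn T₀ L) (hJT₀ : thompsonSubgroupOf 2 T ≤ T₀) :
    thompsonSubgroupOf 2 T = thompsonSubgroupOf 2 T₀ ∧ T₀ ∈ straddlingTwoSubgroups M ∧
      L ∈ jOvergroups T₀ ∧ (T ≤ L → L ∈ jOvergroups T) := by
  obtain ⟨h1, h2, h3, -⟩ := s2948_part hL S M hMJ T hT L hL2 hLM T₀ hT₀ hJT₀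
  refine ⟨h1.symm, h2, h3, fun hTL => ?_⟩
  obtain ⟨hT2, hTne, hTM, -⟩ := hT.1
  obtain ⟨T₀', hT₀', hTT₀'⟩ := Cfsg.Agent.Lib.Helper85.KS12.exists_isSylowTwoIn_ge hT2 hTL
  obtain ⟨-, -, h3', hc⟩ := s2948_part hL S M hMJ T hT L hL2 hLM T₀' hT₀'
    ((thompsonSubgroupOf_le 2 T).trans hTT₀')
  have hTe : T = T₀' := Subgroup.eq_of_le_of_card_ge hTT₀' hc
  rw [hTe]; exact h3'

end Cfsg.Agent.Lib.Helper97.KS12
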