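import Mathlib
import Cfsg.Agent.Lib.Helper85.KS12.HCommClosed
import Cfsg.Agent.Lib.Helper11.KS12.Gen
import Cfsg.Agent.Lib.Helper67.KS12.S2942Core
import Cfsg.Agent.Lib.Helper15.KS12.FourGroup
import Cfsg.Agent.Lib.Helper71.JC.JCInst
import Cfsg.Agent.Lib.Helper97.KS12.S2948Core

/-!
# Key step of S2944: `J(T)`-components of `L ∈ jOvergroups T` normalize each other, and
`N_G(W_K) ≤ N_G(K)` for `K ∈ jComponentsZero T`.
-/

set_option autoImplicit false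

namespace Cfsg.Agent.Lib.Helper97.KS12

open scoped commutatorElement
open Cfsg Cfsg.Agent.Lib.Helper11 Cfsg.Agent.Lib.Helper2.KS12 Cfsg.Agent.Lib.Helper71.JC
  Cfsg.Agent.Lib.Helper15.KS12

variable {G : Type*} [Group G]

/-- conjugation in `commModSub`. -/
theorem commModSub_conj {R : Subgroup G} {x y z : G} (hy : y ∈ commModSub R x)
    (hz : z ∈ Subgroup.normalizer (R : Set G)) :
    z * y * z⁻¹ ∈ commModSub R (z * x * z⁻¹) := by
  refine ⟨Subgroup.mul_mem _ (Subgroup.mul_mem _ hz hy.1) (Subgroup.inv_mem _ hz), ?_⟩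
  have e : z * y * z⁻¹ * (z * x * z⁻¹) * (z * y * z⁻¹)⁻¹ * (z * x * z⁻¹)⁻¹ =
      z * (y * x * y⁻¹ * x⁻¹) * z⁻¹ := by group
  rw [e]
  exact (Subgroup.mem_normalizer_iff.mp hz _).mp hy.2

/-- elementwise commuting subgroups normalize each other. -/
theorem le_normalizer_of_forall_comm {H M : Subgroup G}
    (h : ∀ x ∈ H, ∀ y ∈ M, x * y = y * x) : M ≤ Subgroup.normalizer (H : Set G) := by
  intro y hy
  rw [Subgroup.mem_normalizer_iff]
  intro x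
  constructor
  · intro hx
    have e : y * x * y⁻¹ = x := by rw [← h x hx y hy, mul_inv_cancel_right]
    rw [e]; exact hx
  · intro hx
    have h1 := h _ hx y hy
    have e : x = y * x * y⁻¹ := by
      have h2 : y * x * y⁻¹ * y = y * (y * x * y⁻¹) := h1
      have h3 : y * x = y * (y * x * y⁻¹) := by
        rw [← h2]; group
      exact mul_left_cancel h3
    rw [e]; exact hx

/-- Two `J`-component configurations for the same `J` with commuting, independent four-groups: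
some element of `J` centralizes `W'` but not `W`. -/
theorem exists_centralizing_not [Finite G] {K K' J Q Q' W W' S S' : Subgroup G}
    (c : Cfg K J Q W S) (c' : Cfg K' J Q' W' S')
    (hWW' : W' ≤ Subgroup.centralizer (W : Set G)) (hdisj : W ⊓ W' = ⊥) :
    ∃ t ∈ J, t ∈ Subgroup.centralizer (W' : Set G) ∧ t ∉ Subgroup.centralizer (W : Set G) := by
  by_contra hcon
  push Not at hcon
  have hAS : maxElemAbIn 2 S = maxElemAbIn 2 J :=
    (maxElemAbIn_eq_of_le c.J_le_S (le_of_eq c.hJS)).symm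
  have hAS' : maxElemAbIn 2 S' = maxElemAbIn 2 J :=
    (maxElemAbIn_eq_of_le c'.J_le_S (le_of_eq c'.hJS)).symm
  obtain ⟨A, hA, hAW⟩ := c.exists_max_not_centralizes
  have hA' : A ∈ maxElemAbIn 2 S' := by rw [hAS', ← hAS]; exact hA
  have hAJ : A ≤ J := c.max_le_J hA
  have hAW' : ¬ A ≤ Subgroup.centralizer (W' : Set G) :=
    fun h => hAW (fun a ha => hcon a (hAJ ha) (h ha))
  have hB1 := c'.repl hA' hAW'
  have hB2 := c.repl hA hAW
  have hWJ : W ≤ J := le_sup_right.trans (c.max_le_J hB2)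
  have hWS' : W ≤ S' := hWJ.trans c'.J_le_S
  have hle : (A ⊓ Subgroup.centralizer (W' : Set G)) ⊔ W' ≤ Subgroup.centralizer (W : Set G) :=
    sup_le (fun a ha => hcon a (hAJ ha.1) ha.2) hWW'
  have hB1W : ∀ b ∈ (A ⊓ Subgroup.centralizer (W' : Set G)) ⊔ W', ∀ w ∈ W, b * w = w * b := by
    intro b hb w hw
    exact ((Subgroup.mem_centralizer_iff.mp (hle hb)) w hw).symm
  have hBel := elemAb_sup hB1.2.1 c.W_elemAb hB1W
  have hBS' : ((A ⊓ Subgroup.centralizer (W' : Set G)) ⊔ W') ⊔ W ≤ S' := sup_le hB1.1 hWS'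
  have hcard := hB1.2.2 _ hBS' hBel
  have heq := Subgroup.eq_of_le_of_card_ge
    (le_sup_left : (A ⊓ Subgroup.centralizer (W' : Set G)) ⊔ W' ≤
      ((A ⊓ Subgroup.centralizer (W' : Set G)) ⊔ W') ⊔ W) hcard
  have hWB1 : W ≤ (A ⊓ Subgroup.centralizer (W' : Set G)) ⊔ W' := by
    rw [heq]; exact le_sup_right
  obtain ⟨a, ha, haW⟩ := SetLike.not_le_iff_exists.mp hAW
  apply haW
  rw [Subgroup.mem_centralizer_iff]
  intro w hw
  have hnorm : W' ≤ Subgroup.normalizer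
      ((A ⊓ Subgroup.centralizer (W' : Set G) : Subgroup G) : Set G) :=
    le_normalizer_of_forall_comm
      (fun x hx y hy => ((Subgroup.mem_centralizer_iff.mp hx.2) y hy).symm)
  obtain ⟨a₁, ha₁, w', hw', rfl⟩ := (mem_sup_of_le_normalizer hnorm).mp (hWB1 hw)
  have h1 : a * a₁ = a₁ * a := c.max_comm hA ha ha₁.1
  have hw'' : a * w' * a⁻¹ ∈ W' := conj_mem_of_mem_normalizer (c'.hJW (hAJ ha)) hw'
  have hw3 : a * (a₁ * w') * a⁻¹ ∈ W := conj_mem_of_mem_normalizer (c.hJW (hAJ ha)) hw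
  have hx1 : a * (a₁ * w') * a⁻¹ * (a₁ * w')⁻¹ ∈ W := W.mul_mem hw3 (W.inv_mem hw)
  have hx2 : a * (a₁ * w') * a⁻¹ * (a₁ * w')⁻¹ ∈ W' := by
    have e : a * (a₁ * w') * a⁻¹ * (a₁ * w')⁻¹ = a₁ * ((a * w' * a⁻¹) * w'⁻¹) * a₁⁻¹ := by
      calc a * (a₁ * w') * a⁻¹ * (a₁ * w')⁻¹ = (a * a₁) * w' * a⁻¹ * w'⁻¹ * a₁⁻¹ := by group
        _ = (a₁ * a) * w' * a⁻¹ * w'⁻¹ * a₁⁻¹ := by rw [h1]
        _ = a₁ * ((a * w' * a⁻¹) * w'⁻¹) * a₁⁻¹ := by group
    rw [e]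
    have hy : (a * w' * a⁻¹) * w'⁻¹ ∈ W' := W'.mul_mem hw'' (W'.inv_mem hw')
    have h2 := (Subgroup.mem_centralizer_iff.mp ha₁.2) _ hy
    rw [← h2, mul_inv_cancel_right]; exact hy
  have hx : a * (a₁ * w') * a⁻¹ * (a₁ * w')⁻¹ = 1 := by
    have h3 : a * (a₁ * w') * a⁻¹ * (a₁ * w')⁻¹ ∈ W ⊓ W' := ⟨hx1, hx2⟩
    rw [hdisj] at h3; exact Subgroup.mem_bot.mp h3
  have h4 := mul_inv_eq_one.mp hx
  calc a₁ * w' * a = (a * (a₁ * w') * a⁻¹) * a := by rw [h4]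
    _ = a * (a₁ * w') := by group

/-- An element of `J` centralizing `W` centralizes `K / O₂(K)`. -/
theorem comm_mem_of_centralizes {K J Q W S : Subgroup G} (c : Cfg K J Q W S) {t : G}
    (ht : t ∈ J) (htW : t ∈ Subgroup.centralizer (W : Set G)) {k : G} (hk : k ∈ K) :
    t * k * t⁻¹ * k⁻¹ ∈ Q := by
  apply c.mem_R_of_centralizes
  · exact K.mul_mem (conj_mem_of_mem_normalizer (c.hJK ht) hk) (K.inv_mem hk)
  · intro w hw
    have h1 : k⁻¹ * w * k ∈ W := conj_inv_mem_of_mem_normalizer (c.hKW hk) hw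
    have h2 := (Subgroup.mem_centralizer_iff.mp htW) _ h1
    have h3 := (Subgroup.mem_centralizer_iff.mp htW) w hw
    have e : (t * k * t⁻¹ * k⁻¹) * w * (t * k * t⁻¹ * k⁻¹)⁻¹ =
        t * k * (t⁻¹ * ((k⁻¹ * w * k) * t)) * k⁻¹ * t⁻¹ := by group
    rw [e, h2]
    have e3 : t * k * (t⁻¹ * (t * (k⁻¹ * w * k))) * k⁻¹ * t⁻¹ = (w * t) * t⁻¹ := by
      rw [h3]; group
    rw [e3, mul_inv_cancel_right]

/-- An element of `J` not centralizing `W` does not centralize `K / O₂(K)`. -/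
theorem exists_comm_not_mem [Finite G] {K J Q W S : Subgroup G} (c : Cfg K J Q W S) {t : G}
    (ht : t ∈ J) (htW : t ∉ Subgroup.centralizer (W : Set G)) :
    ∃ k ∈ K, t * k * t⁻¹ * k⁻¹ ∉ Q := by
  by_contra hcon
  push Not at hcon
  apply htW
  obtain ⟨d, hd, hdQ⟩ := c.exists_d
  obtain ⟨w₀, hw₀, hw₀1, hw₀c⟩ := c.exists_central
  have ht0 : t * w₀ = w₀ * t := hw₀c t (c.J_le_S ht)
  obtain ⟨w₁, hw₁⟩ : ∃ w₁ : G, w₁ = d * w₀ * d⁻¹ := ⟨_, rfl⟩
  have hw₁W : w₁ ∈ W := by rw [hw₁]; exact conj_mem_of_mem_normalizer (c.hKW hd) hw₀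
  have hw₁1 : w₁ ≠ 1 := by
    intro h
    apply hw₀1
    have e : w₀ = d⁻¹ * w₁ * d := by rw [hw₁]; group
    rw [e, h]; group
  have hw₁0 : w₁ ≠ w₀ := fun h => hw₀1 (c.hfp d hd hdQ w₀ hw₀ (hw₁ ▸ h))
  have ht1 : t * w₁ = w₁ * t := by
    have hq := hcon d hd
    have hqc := c.hWZ w₁ hw₁W _ hq
    have e1 : t * w₀ * t⁻¹ = w₀ := by rw [ht0, mul_inv_cancel_right]
    have e2 : t * w₁ * t⁻¹ =
        (t * d * t⁻¹ * d⁻¹) * (d * (t * w₀ * t⁻¹) * d⁻¹) * (t * d * t⁻¹ * d⁻¹)⁻¹ := by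
      rw [hw₁]; group
    rw [e1, ← hw₁] at e2
    have e3 : (t * d * t⁻¹ * d⁻¹) * w₁ * (t * d * t⁻¹ * d⁻¹)⁻¹ = w₁ := by
      rw [← hqc, mul_inv_cancel_right]
    rw [e3] at e2
    calc t * w₁ = (t * w₁ * t⁻¹) * t := by group
      _ = w₁ * t := by rw [e2]
  have hw₂W : w₀ * w₁ ∈ W := W.mul_mem hw₀ hw₁W
  have hw₂1 : w₀ * w₁ ≠ 1 := by
    intro h
    apply hw₁0
    have h2 := c.hW2 w₀ hw₀
    calc w₁ = w₀⁻¹ * (w₀ * w₁) := by group
      _ = w₀⁻¹ := by rw [h, mul_one]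
      _ = w₀ := inv_eq_of_mul_eq_one_left h2
  have h02 : w₀ ≠ w₀ * w₁ := fun h => hw₁1 (left_eq_mul.mp h)
  have h12 : w₁ ≠ w₀ * w₁ := fun h => hw₀1 (right_eq_mul.mp h)
  have henum := four_enum c.hW4 hw₀ hw₁W hw₂W hw₀1 hw₁1 hw₂1 (Ne.symm hw₁0) h02 h12
  rw [Subgroup.mem_centralizer_iff]
  intro w hw
  rcases henum w hw with rfl | rfl | rfl | rfl
  · simp
  · exact ht0.symm
  · exact ht1.symm
  · rw [mul_assoc, ← ht1, ← mul_assoc, ← ht0, mul_assoc]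

/-- A 2-local subgroup of a group of characteristic 2 type has `C_G(O₂(L)) ≤ O₂(L)`. -/
theorem centralizer_pCoreOf_le_of_isTwoLocal (hL : IsCharacteristicTwoType G) {L : Subgroup G}
    (hL2 : IsTwoLocal L) :
    Subgroup.centralizer (pCoreOf 2 L : Set G) ≤ pCoreOf 2 L := by
  obtain ⟨P, hP2, hPne, rfl⟩ := hL2
  have hchar := hL.2 P hP2 hPne
  unfold IsOfCharacteristicTwo at hchar
  have hPQ : P ≤ pCoreOf 2 (Subgroup.normalizer (P : Set G)) :=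
    Cfsg.Agent.Lib.Helper85.KS12.le_pCoreOf_of_normal hP2 Subgroup.le_normalizer le_rfl
  intro g hg
  have hgN : g ∈ Subgroup.normalizer (P : Set G) := by
    rw [Subgroup.mem_normalizer_iff]
    intro x
    constructor
    · intro hx
      have h0 := hg x (hPQ hx)
      have e : g * x * g⁻¹ = x := by rw [← h0]; group
      rw [e]; exact hx
    · intro hx
      have h0 := hg _ (hPQ hx)
      have e : x = g * x * g⁻¹ := by
        have h00 : g * x = g * (g * x * g⁻¹) := by rw [← h0]; group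
        exact mul_left_cancel h00
      rw [e]; exact hx
  have h1 : (⟨g, hgN⟩ : ↥(Subgroup.normalizer (P : Set G))) ∈
      Subgroup.centralizer
        (pCore 2 ↥(Subgroup.normalizer (P : Set G)) : Set ↥(Subgroup.normalizer (P : Set G))) := by
    intro y hy
    apply Subtype.ext
    exact hg y.1 ⟨y, hy, rfl⟩
  exact ⟨⟨g, hgN⟩, hchar h1, rfl⟩

/-- **Two `J(T)`-components of `L ∈ jOvergroups T` normalize each other.** -/
theorem jComp_normalizes [Finite G] (hL : IsCharacteristicTwoType G)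
    (hN : ∀ N : Subgroup G, Cfsg.IsTwoLocal N → Group.IsSolvable ↥N)
    (hZ : ∀ S : Sylow 2 G, Subgroup.centralizer (Cfsg.omegaCenterOf (S : Subgroup G) : Set G) ≤
      Subgroup.normalizer ((S : Subgroup G) : Set G))
    (T L : Subgroup G) (hT : IsPGroup 2 T) (hT1 : T ≠ ⊥) (hLT : L ∈ jOvergroups T)
    (K K' : Subgroup G) (hK : IsJComponent T K) (hK' : IsJComponent T K') (hKL : K ≤ L)
    (hK'L : K' ≤ L) : K' ≤ Subgroup.normalizer (K : Set G) := by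
  have : Fact (Nat.Prime 2) := ⟨Nat.prime_two⟩
  have : Fact (Nat.Prime 3) := ⟨Nat.prime_three⟩
  by_cases hne : K = K'
  · rw [← hne]; exact Subgroup.le_normalizer
  have c := cfg_of_isJComponent hT hK
  have c' := cfg_of_isJComponent hT hK'
  have hTL := hLT.1
  have hCQ := hLT.2.2
  have hJT : thompsonSubgroupOf 2 T ≤ T := thompsonSubgroupOf_le 2 T
  have hKK' : ⁅K', K⁆ ≤ CL L :=
    Cfsg.Agent.Lib.Helper74.KS12.jComp_comm_le hN hZ T hT1 L hLT K' K hK' hK hK'L hKL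
  have hKKab : ⁅K, K⁆ ≤ CL L :=
    Cfsg.Agent.Lib.Helper74.KS12.jComp_comm_le hN hZ T hT1 L hLT K K hK hK hKL hKL
  have hK'K'ab : ⁅K', K'⁆ ≤ CL L :=
    Cfsg.Agent.Lib.Helper74.KS12.jComp_comm_le hN hZ T hT1 L hLT K' K' hK' hK' hK'L hK'L
  have hCJ : CL L ≤ Subgroup.normalizer (thompsonSubgroupOf 2 T : Set G) :=
    CL_le_normalizer_thompson hZ hTL hCQ
  have hCK : CL L ≤ Subgroup.normalizer (K : Set G) :=
    Cfsg.Agent.Lib.Helper67.KS12.le_normalizer_of_normalizes_J hK.1 hK.2.1 c.hJ2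
      (hKL.trans (le_normalizer_CL L)) hCJ
  have hCT : ⁅CL L, T⁆ ≤ pCoreOf 2 L := comm_CL_le hZ hTL hCQ
  have hLV : L ≤ Subgroup.normalizer (VL L : Set G) := le_normalizer_VL L
  have hQC : pCoreOf 2 K ≤ CL L := fun q hq =>
    ⟨hKL (c.hRK hq),
      Cfsg.Agent.Lib.Helper85.KS12.jcomp_pCoreOf_le_centralizer hK hKL hLV hKKab hq⟩
  have hQ'C : pCoreOf 2 K' ≤ CL L := fun q hq =>
    ⟨hK'L (c'.hRK hq),
      Cfsg.Agent.Lib.Helper85.KS12.jcomp_pCoreOf_le_centralizer hK' hK'L hLV hK'K'ab hq⟩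
  have hQR : pCoreOf 2 K ≤ pCoreOf 2 L := le_pCoreOf_of_le_CL hZ hTL hCQ c.hR2 hQC
  have hQ'R : pCoreOf 2 K' ≤ pCoreOf 2 L := le_pCoreOf_of_le_CL hZ hTL hCQ c'.hR2 hQ'C
  have hLR : L ≤ Subgroup.normalizer (pCoreOf 2 L : Set G) :=
    Cfsg.Agent.Lib.Helper47.le_normalizer_pCoreOf 2 L
  have hR2 : IsPGroup 2 (pCoreOf 2 L) := pCoreOf_two_isPGroup L
  have hRC : pCoreOf 2 L ≤ CL L := pCoreOf_le_CL L
  -- `K ∩ C ≤ O₂(K)`
  have hKCQ : ∀ x ∈ K, x ∈ CL L → x ∈ pCoreOf 2 K := by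
    intro x hx hxC
    by_contra hxQ
    apply Cfsg.Agent.Lib.Helper85.KS12.jcomp_not_le hT hK hCJ
    intro y hy
    obtain ⟨n, q, hq, rfl⟩ := exists_pow_mul_of_relIndex_prime c.hRK c.hKR c.hidx hx hxQ y hy
    exact (CL L).mul_mem ((CL L).pow_mem hxC n) (hQC hq)
  -- `[C, K] ≤ O₂(L)`
  have hCKR : ∀ cc ∈ CL L, ∀ k ∈ K, cc * k * cc⁻¹ * k⁻¹ ∈ pCoreOf 2 L := by
    intro cc hcc k hk
    apply hQR
    apply hKCQ
    · exact K.mul_mem (conj_mem_of_mem_normalizer (hCK hcc) hk) (K.inv_mem hk)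
    · have h1 : k * cc⁻¹ * k⁻¹ ∈ CL L :=
        conj_mem_of_mem_normalizer (le_normalizer_CL L (hKL hk)) ((CL L).inv_mem hcc)
      have e : cc * k * cc⁻¹ * k⁻¹ = cc * (k * cc⁻¹ * k⁻¹) := by group
      rw [e]; exact (CL L).mul_mem hcc h1
  have hK'W : K' ≤ Subgroup.centralizer (wOf K : Set G) :=
    Cfsg.Agent.Lib.Helper85.KS12.jComp_centralize_wOf hL hN hZ T L hT hT1 hLT K K' hK hK' hKL
      hK'L hne
  have hKW' : K ≤ Subgroup.centralizer (wOf K' : Set G) :=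
    Cfsg.Agent.Lib.Helper85.KS12.jComp_centralize_wOf hL hN hZ T L hT hT1 hLT K' K hK' hK hK'L
      hKL (Ne.symm hne)
  have hdisj : wOf K ⊓ wOf K' = ⊥ := by
    rw [Subgroup.eq_bot_iff_forall]
    rintro w ⟨hw, hw'⟩
    obtain ⟨d, hd, hdQ⟩ := c.exists_d
    apply c.hfp d hd hdQ w hw
    have h1 := (Subgroup.mem_centralizer_iff.mp (hKW' hd)) w hw'
    rw [← h1, mul_inv_cancel_right]
  obtain ⟨t, htJ, htW', htW⟩ := exists_centralizing_not c c'
    ((Cfsg.Agent.Lib.Helper81.KS12.wOf_le K').trans hK'W) hdisj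
  obtain ⟨k₀, hk₀, hu⟩ := exists_comm_not_mem c htJ htW
  have htL : t ∈ L := hTL.1 (hJT htJ)
  have htNR : t ∈ Subgroup.normalizer (pCoreOf 2 L : Set G) := hLR htL
  have hk₀NR : k₀ ∈ Subgroup.normalizer (pCoreOf 2 L : Set G) := hLR (hKL hk₀)
  have huK : t * k₀ * t⁻¹ * k₀⁻¹ ∈ K :=
    K.mul_mem (conj_mem_of_mem_normalizer (c.hJK htJ) hk₀) (K.inv_mem hk₀)
  have hvNR : k₀ * t * k₀⁻¹ ∈ Subgroup.normalizer (pCoreOf 2 L : Set G) :=
    Subgroup.mul_mem _ (Subgroup.mul_mem _ hk₀NR htNR) (Subgroup.inv_mem _ hk₀NR)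
  have key : ∀ g' ∈ K', ∀ k ∈ K, g' * k * g'⁻¹ ∈ K ⊔ pCoreOf 2 L := by
    intro g' hg'
    have hg'NR : g' ∈ Subgroup.normalizer (pCoreOf 2 L : Set G) := hLR (hK'L hg')
    have h1 : t ∈ commModSub (pCoreOf 2 L) g' :=
      ⟨htNR, hQ'R (comm_mem_of_centralizes c' htJ htW' hg')⟩
    have hc₁ : k₀ * g' * k₀⁻¹ * g'⁻¹ ∈ CL L := by
      have h := hKK' (Subgroup.commutator_mem_commutator hg' hk₀)
      have e : k₀ * g' * k₀⁻¹ * g'⁻¹ = (⁅g', k₀⁆)⁻¹ := by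
        rw [commutatorElement_def]; group
      rw [e]; exact (CL L).inv_mem h
    have hc₁NR : k₀ * g' * k₀⁻¹ * g'⁻¹ ∈ Subgroup.normalizer (pCoreOf 2 L : Set G) :=
      hLR (CL_le L hc₁)
    have h2 := commModSub_conj h1 hk₀NR
    have h4 : k₀ * g' * k₀⁻¹ ∈ commModSub (pCoreOf 2 L) (k₀ * t * k₀⁻¹) :=
      commModSub_symm h2
        (Subgroup.mul_mem _ (Subgroup.mul_mem _ hk₀NR hg'NR) (Subgroup.inv_mem _ hk₀NR))
    have hxK : k₀ * t * k₀⁻¹ * t⁻¹ ∈ K := by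
      have h := conj_mem_of_mem_normalizer (c.hJK htJ) (K.inv_mem hk₀)
      have e : k₀ * t * k₀⁻¹ * t⁻¹ = k₀ * (t * k₀⁻¹ * t⁻¹) := by group
      rw [e]; exact K.mul_mem hk₀ h
    have h5a : k₀ * t * k₀⁻¹ * t⁻¹ ∈ commModSub (pCoreOf 2 L) (k₀ * g' * k₀⁻¹ * g'⁻¹) :=
      commModSub_symm ⟨hc₁NR, hCKR _ hc₁ _ hxK⟩ (hLR (hKL hxK))
    have h5b : t ∈ commModSub (pCoreOf 2 L) (k₀ * g' * k₀⁻¹ * g'⁻¹) := by
      refine commModSub_symm ⟨hc₁NR, ?_⟩ htNR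
      have h := hCT (Subgroup.commutator_mem_commutator hc₁ (hJT htJ))
      rwa [commutatorElement_def] at h
    have h5 : k₀ * t * k₀⁻¹ ∈ commModSub (pCoreOf 2 L) (k₀ * g' * k₀⁻¹ * g'⁻¹) := by
      have e : k₀ * t * k₀⁻¹ = (k₀ * t * k₀⁻¹ * t⁻¹) * t := by group
      rw [e]; exact Subgroup.mul_mem _ h5a h5b
    have h6 : k₀ * g' * k₀⁻¹ * g'⁻¹ ∈ commModSub (pCoreOf 2 L) (k₀ * t * k₀⁻¹) :=
      commModSub_symm h5 hc₁NR
    have h7 : g' ∈ commModSub (pCoreOf 2 L) (k₀ * t * k₀⁻¹) := by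
      have e : g' = (k₀ * g' * k₀⁻¹ * g'⁻¹)⁻¹ * (k₀ * g' * k₀⁻¹) := by group
      rw [e]; exact Subgroup.mul_mem _ (Subgroup.inv_mem _ h6) h4
    have h8 : k₀ * t * k₀⁻¹ ∈ commModSub (pCoreOf 2 L) g' := commModSub_symm h7 hvNR
    have h9 : t * k₀ * t⁻¹ * k₀⁻¹ ∈ commModSub (pCoreOf 2 L) g' := by
      have e : t * k₀ * t⁻¹ * k₀⁻¹ = t * (k₀ * t * k₀⁻¹)⁻¹ := by group
      rw [e]; exact Subgroup.mul_mem _ h1 (Subgroup.inv_mem _ h8)
    have hKM : K ≤ commModSub (pCoreOf 2 L) g' := by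
      intro y hy
      obtain ⟨n, q, hq, rfl⟩ := exists_pow_mul_of_relIndex_prime c.hRK c.hKR c.hidx huK hu y hy
      exact Subgroup.mul_mem _ (Subgroup.pow_mem _ h9 n) (le_commModSub hg'NR (hQR hq))
    intro k hk
    have h10 := (hKM (K.inv_mem hk)).2
    have e : g' * k * g'⁻¹ = k * (k⁻¹ * g' * k⁻¹⁻¹ * g'⁻¹) := by group
    rw [e]
    exact Subgroup.mul_mem _ ((le_sup_left : K ≤ K ⊔ pCoreOf 2 L) hk)
      ((le_sup_right : pCoreOf 2 L ≤ K ⊔ pCoreOf 2 L) h10)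
  have hRK : pCoreOf 2 L ≤ Subgroup.normalizer (K : Set G) := hRC.trans hCK
  have hconj : ∀ g' ∈ K', ∀ k ∈ K, g' * k * g'⁻¹ ∈ K := by
    intro g' hg' k hk
    have hle : K ≤ K.comap (MulAut.conj g').toMonoidHom := by
      conv_lhs => rw [← hK.1]
      rw [Subgroup.closure_le]
      rintro x ⟨hxK, hxodd⟩
      show g' * x * g'⁻¹ ∈ K
      apply Cfsg.Agent.Lib.Helper67.KS12.mem_of_odd_of_mem_sup hR2 hRK (key g' hg' x hxK)
      have ho : orderOf (g' * x * g'⁻¹) = orderOf x :=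
        orderOf_injective (MulAut.conj g').toMonoidHom (MulAut.conj g').injective x
      rw [ho]; exact hxodd
    exact hle hk
  intro g' hg'
  refine Cfsg.Agent.Lib.Helper85.KS12.mem_normalizer_of_conj_mem (hconj g' hg') (fun x hx => ?_)
  have h := hconj g'⁻¹ (K'.inv_mem hg') x hx
  rwa [inv_inv] at h

/-- **Key step of S2944** (in the shape of helper76's announced lemma / helper41's `hKey`):
if `N ∈ jOvergroups S` normalizes `W_K` for a `J(S)`-component `K ≤ N`, then `N` normalizes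
`K`. -/
theorem le_normalizer_of_le_normalizer_wOf [Finite G] (hL : IsCharacteristicTwoType G)
    (hN : ∀ N : Subgroup G, Cfsg.IsTwoLocal N → Group.IsSolvable ↥N)
    (hZ : ∀ S : Sylow 2 G, Subgroup.centralizer (Cfsg.omegaCenterOf (S : Subgroup G) : Set G) ≤
      Subgroup.normalizer ((S : Subgroup G) : Set G))
    (S N K : Subgroup G) (hS : IsPGroup 2 S) (hS1 : S ≠ ⊥) (hNS : N ∈ jOvergroups S)
    (hK : IsJComponent S K) (hKN : K ≤ N)
    (hNW : N ≤ Subgroup.normalizer (wOf K : Set G)) : N ≤ Subgroup.normalizer (K : Set G) := by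
  have hgen : N ≤ sSup {K' : Subgroup G | IsJComponent S K' ∧ K' ≤ N} ⊔
      (N ⊓ Subgroup.normalizer (thompsonSubgroupOf 2 S : Set G)) :=
    Cfsg.Agent.Lib.Helper11.KS12.genByJComponents hN hZ hS1 hNS
  refine hgen.trans (sup_le (sSup_le ?_) ?_)
  · rintro K' ⟨hK', hK'N⟩
    exact jComp_normalizes hL hN hZ S N hS hS1 hNS K K' hK hK' hKN hK'N
  · rintro x ⟨hxN, hxJ⟩
    have hKx : IsJComponent S (K.map (MulAut.conj x).toMonoidHom) :=
      Cfsg.Agent.Lib.Helper81.KS12.isJComponent_map_conj hK hxJ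
    have hKxN : K.map (MulAut.conj x).toMonoidHom ≤ N := by
      rintro _ ⟨k, hk, rfl⟩
      exact N.mul_mem (N.mul_mem hxN (hKN hk)) (N.inv_mem hxN)
    have hWx : wOf (K.map (MulAut.conj x).toMonoidHom) = wOf K := by
      rw [Cfsg.Agent.Lib.Helper81.KS12.wOf_map (MulAut.conj x) K]
      exact map_conj_eq_of_mem_normalizer (hNW hxN)
    apply mem_normalizer_of_map_conj_eq
    by_contra hne
    have hcen : K.map (MulAut.conj x).toMonoidHom ≤ Subgroup.centralizer (wOf K : Set G) :=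
      Cfsg.Agent.Lib.Helper85.KS12.jComp_centralize_wOf hL hN hZ S N hS hS1 hNS K _ hK hKx hKN
        hKxN (fun h => hne h.symm)
    have c'' := cfg_of_isJComponent hS hKx
    obtain ⟨d, hd, hdQ⟩ := c''.exists_d
    apply hdQ
    apply c''.mem_R_of_centralizes hd
    intro w hw
    rw [hWx] at hw
    have h1 := (Subgroup.mem_centralizer_iff.mp (hcen hd)) w hw
    rw [← h1, mul_inv_cancel_right]

/-- `N_G(W_K) ≤ N_G(K)` for `K ∈ jComponentsZero T`. -/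
theorem normalizer_wOf_le [Finite G] (hL : IsCharacteristicTwoType G)
    (hN : ∀ N : Subgroup G, Cfsg.IsTwoLocal N → Group.IsSolvable ↥N)
    (hZ : ∀ S : Sylow 2 G, Subgroup.centralizer (Cfsg.omegaCenterOf (S : Subgroup G) : Set G) ≤
      Subgroup.normalizer ((S : Subgroup G) : Set G))
    (T : Subgroup G) (hT : IsPGroup 2 T) (hT1 : T ≠ ⊥) (K : Subgroup G)
    (hK : K ∈ jComponentsZero T) :
    Subgroup.normalizer (wOf K : Set G) ≤ Subgroup.normalizer (K : Set G) := by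
  have : Fact (Nat.Prime 2) := ⟨Nat.prime_two⟩
  obtain ⟨hKJ, hKz⟩ := hK
  have hJT : thompsonSubgroupOf 2 T ≤ T := thompsonSubgroupOf_le 2 T
  have hJ2 : IsPGroup 2 (thompsonSubgroupOf 2 T) := hT.to_le hJT
  have hJne : thompsonSubgroupOf 2 T ≠ ⊥ :=
    Cfsg.Agent.Lib.Helper91.thompsonSubgroupOf_ne_bot T hT hT1
  have hN2 : IsTwoLocal (Subgroup.normalizer (wOf K : Set G)) :=
    Cfsg.Agent.Lib.Helper81.KS12.isTwoLocal_normalizer_wOf hKJ
  have hJN : thompsonSubgroupOf 2 T ≤ Subgroup.normalizer (wOf K : Set G) :=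
    Cfsg.Agent.Lib.Helper81.KS12.isJComponent_thompson_le_normalizer_wOf hKJ
  have hKN : K ≤ Subgroup.normalizer (wOf K : Set G) :=
    Cfsg.Agent.Lib.Helper85.KS12.le_normalizer_wOf K
  obtain ⟨S₁, hS₁, hJS₁⟩ := Cfsg.Agent.Lib.Helper85.KS12.exists_isSylowTwoIn_ge hJ2 hJN
  have hJeq : thompsonSubgroupOf 2 S₁ = thompsonSubgroupOf 2 T := hKz S₁ hJS₁ hS₁
  have hS₁ne : S₁ ≠ ⊥ := fun h => hJne (le_bot_iff.mp (h ▸ hJS₁))
  have hKS₁ : IsJComponent S₁ K := Cfsg.Agent.Lib.Helper85.KS12.isJComponent_congr hJeq hKJ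
  have hNj : Subgroup.normalizer (wOf K : Set G) ∈ jOvergroups S₁ := by
    refine ⟨hS₁, ?_, centralizer_pCoreOf_le_of_isTwoLocal hL hN2⟩
    intro hle
    rw [hJeq] at hle
    -- then `K = [K, J] ≤ O₂(N)` is a 2-group
    have hKR : K ≤ pCoreOf 2 (Subgroup.normalizer (wOf K : Set G)) := by
      conv_lhs => rw [← hKJ.2.1]
      rw [Subgroup.commutator_le]
      intro k hk j hj
      have hjR := hle hj
      have hkN := Cfsg.Agent.Lib.Helper47.le_normalizer_pCoreOf 2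
        (Subgroup.normalizer (wOf K : Set G)) (hKN hk)
      rw [commutatorElement_def]
      exact Subgroup.mul_mem _ (conj_mem_of_mem_normalizer hkN hjR) (Subgroup.inv_mem _ hjR)
    have hK2 : IsPGroup 2 K := (pCoreOf_two_isPGroup _).to_le hKR
    have c := cfg_of_isJComponent hT hKJ
    obtain ⟨d, hd, hdQ⟩ := c.exists_d
    apply hdQ
    exact Cfsg.Agent.Lib.Helper85.KS12.le_pCoreOf_of_normal hK2 le_rfl Subgroup.le_normalizer hd
  exact le_normalizer_of_le_normalizer_wOf hL hN hZ S₁ _ K hS₁.2.1 hS₁ne hNj hKS₁ hKN le_rfl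

end Cfsg.Agent.Lib.Helper97.KS12
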