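import Mathlib
import Cfsg.Agent.Lib.Helper11.KS12.FFMin

/-!
# One `S₃`-factor of `L / C_L(V)` for `L ∈ jOvergroups T`

From helper11's `hol_struct` (`ψ(J(L)) ≃ S₃ⁿ`) we extract a single subgroup `D` with
`C_L(V) ≤ D ≤ L`, `|D : C_L(V)| = 3`, normalized by `J(L) ≥ J(T)` and not centralized
(mod `C_L(V)`) by `J(T)`.
-/

set_option autoImplicit false

namespace Cfsg.Agent.Lib.Helper97.KS12

open scoped commutatorElement
open Cfsg Cfsg.Agent.Lib.Helper11 Cfsg.Agent.Lib.Helper11.FFT Cfsg.Agent.Lib.Helper2.KS12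
  Cfsg.Agent.Lib.Helper11.KS12

theorem perm3_sq_or_cube : ∀ τ : Equiv.Perm (Fin 3), τ ^ 2 = 1 ∨ τ ^ 3 = 1 := by decide

theorem perm3_conj_rot : ∀ σ : Equiv.Perm (Fin 3),
    σ * finRotate 3 * σ⁻¹ = finRotate 3 ∨ σ * finRotate 3 * σ⁻¹ = (finRotate 3) ^ 2 := by decide

theorem perm3_invol_conj_rot : ∀ τ : Equiv.Perm (Fin 3), τ ≠ 1 → τ ^ 2 = 1 →
    τ * finRotate 3 * τ⁻¹ ≠ finRotate 3 := by decide

theorem perm3_rot_cube : (finRotate 3 : Equiv.Perm (Fin 3)) ^ 3 = 1 := by decide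

theorem perm3_rot_ne_one : (finRotate 3 : Equiv.Perm (Fin 3)) ≠ 1 := by decide

/-- In a group isomorphic to `S₃ⁿ`, a nontrivial 2-element `t` does not centralize some element
`d` of order 3 generating a normal subgroup. -/
theorem exists_order_three {H : Type*} [Group H] {n : ℕ}
    (e : H ≃* (Fin n → Equiv.Perm (Fin 3))) (t : H) (ht1 : t ≠ 1) (k : ℕ)
    (htk : t ^ 2 ^ k = 1) :
    ∃ d : H, orderOf d = 3 ∧ (∀ h : H, h * d * h⁻¹ = d ∨ h * d * h⁻¹ = d ^ 2) ∧
      t * d * t⁻¹ ≠ d := by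
  classical
  have h1 : e t ≠ 1 := by
    intro h
    apply ht1
    apply e.injective
    rw [h, map_one]
  obtain ⟨i, hi⟩ : ∃ i, e t i ≠ 1 := by
    by_contra hcon
    push Not at hcon
    exact h1 (funext hcon)
  have hτk : (e t i) ^ 2 ^ k = 1 := by
    have h0 := congrFun (congrArg e htk) i
    rw [map_pow, map_one] at h0
    simpa using h0
  have hτ2 : (e t i) ^ 2 = 1 := by
    rcases perm3_sq_or_cube (e t i) with h | h
    · exact h
    · exfalso
      apply hi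
      have hd1 : orderOf (e t i) ∣ 3 := orderOf_dvd_of_pow_eq_one h
      have hd2 : orderOf (e t i) ∣ 2 ^ k := orderOf_dvd_of_pow_eq_one hτk
      have hcop : Nat.Coprime 3 (2 ^ k) := Nat.Coprime.pow_right k (by decide)
      have h11 : orderOf (e t i) = 1 := Nat.eq_one_of_dvd_coprimes hcop hd1 hd2
      exact orderOf_eq_one_iff.mp h11
  have key : ∀ h : H, e (h * e.symm (Pi.mulSingle i (finRotate 3)) * h⁻¹) =
      Pi.mulSingle i (e h i * finRotate 3 * (e h i)⁻¹) := by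
    intro h
    rw [map_mul, map_mul, map_inv, e.apply_symm_apply]
    funext j
    by_cases hj : j = i
    · subst hj; simp
    · simp [Pi.mulSingle_eq_of_ne hj]
  refine ⟨e.symm (Pi.mulSingle i (finRotate 3)), ?_, ?_, ?_⟩
  · have : Fact (Nat.Prime 3) := ⟨Nat.prime_three⟩
    rw [orderOf_eq_prime_iff]
    constructor
    · rw [← map_pow, ← Pi.mulSingle_pow, perm3_rot_cube, Pi.mulSingle_one, map_one]
    · intro h
      have h2 : Pi.mulSingle i (finRotate 3) = (1 : Fin n → Equiv.Perm (Fin 3)) := by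
        have h3 := congrArg e h
        rwa [e.apply_symm_apply, map_one] at h3
      have h4 := congrFun h2 i
      rw [Pi.mulSingle_eq_same] at h4
      exact perm3_rot_ne_one h4
  · intro h
    rcases perm3_conj_rot (e h i) with hc | hc
    · left
      apply e.injective
      rw [key, hc, e.apply_symm_apply]
    · right
      apply e.injective
      rw [key, hc, map_pow, e.apply_symm_apply, Pi.mulSingle_pow]
  · intro h
    have h2 := congrArg e h
    rw [key, e.apply_symm_apply] at h2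
    have h3 := congrFun h2 i
    rw [Pi.mulSingle_eq_same, Pi.mulSingle_eq_same] at h3
    exact perm3_invol_conj_rot (e t i) hi hτ2 h3

variable {G : Type*} [Group G] [Finite G]

/-- **One `S₃`-factor.** For `L ∈ jOvergroups T` there is `D` with `C_L(V) ≤ D ≤ L`,
`|D : C_L(V)| = 3`, `J(L) ≤ N_G(D)` and `[D, J(T)] ≰ C_L(V)`. -/
theorem exists_D (hN : ∀ N : Subgroup G, Cfsg.IsTwoLocal N → Group.IsSolvable ↥N)
    (hZ : ∀ S : Sylow 2 G, Subgroup.centralizer (Cfsg.omegaCenterOf (S : Subgroup G) : Set G) ≤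
      Subgroup.normalizer ((S : Subgroup G) : Set G))
    {T L : Subgroup G} (hT1 : T ≠ ⊥) (hLT : L ∈ jOvergroups T) :
    ∃ D : Subgroup G, CL L ≤ D ∧ D ≤ L ∧ (CL L).relIndex D = 3 ∧
      thompsonSubgroupOf 2 L ≤ Subgroup.normalizer (D : Set G) ∧
      ¬ ⁅D, thompsonSubgroupOf 2 T⁆ ≤ CL L := by
  have : Fact (Nat.Prime 2) := ⟨Nat.prime_two⟩
  have hnot := thompson_not_le_CL hZ hLT
  obtain ⟨hT, -, hCQ⟩ := hLT
  have hsolL : Group.IsSolvable ↥L := isSolvable_of_mem_jOvergroups hN hT1 hCQ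
  have hsol : IsPSolvable 2 ↥L := Cfsg.Agent.Lib.Helper79.isPSolvable_of_isSolvable 2 inferInstance
  have hVn : ((VL L).subgroupOf L).Normal :=
    (Subgroup.normal_subgroupOf_iff_le_normalizer (VL_le L)).mpr (le_normalizer_VL L)
  have hV : IsElementaryAbelian 2 ((VL L).subgroupOf L) :=
    Cfsg.Agent.Lib.Helper10.isElementaryAbelian_subgroupOf (VL_elemAb L) L
  have hOp := pCore_range_eq_bot ((VL L).subgroupOf L)
    (pCore_quotient_centralizer_VL_eq_bot hZ hT hCQ)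
  obtain ⟨t, htJ, htC⟩ := SetLike.not_le_iff_exists.mp hnot
  have htJL : t ∈ thompsonSubgroupOf 2 L := thompsonSubgroupOf_le_of_isSylowTwoIn hT htJ
  obtain ⟨y, hyY, rfl⟩ := htJL
  have hker : ∀ x : ↥L, psi ((VL L).subgroupOf L) x = 1 ↔ (x : G) ∈ CL L := by
    intro x
    rw [← MonoidHom.mem_ker, psi_ker]
    exact mem_centralizer_VL_subgroupOf x
  have hψy : psi ((VL L).subgroupOf L) y ≠ 1 := fun h => htC ((hker y).mp h)
  have hH1 : (thompsonSubgroup 2 ↥L).map (psi ((VL L).subgroupOf L)) ≠ ⊥ := by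
    intro h
    apply hψy
    have h0 : psi ((VL L).subgroupOf L) y ∈
        (thompsonSubgroup 2 ↥L).map (psi ((VL L).subgroupOf L)) := Subgroup.mem_map_of_mem _ hyY
    rw [h] at h0
    exact Subgroup.mem_bot.mp h0
  obtain ⟨n, ⟨e⟩⟩ := hol_struct ((VL L).subgroupOf L) hV hsol hOp hH1
  obtain ⟨k, hk⟩ : ∃ k : ℕ, y ^ 2 ^ k = 1 := by
    have hyT : (y : G) ∈ T := thompsonSubgroupOf_le 2 T htJ
    obtain ⟨k, hk⟩ := hT.2.1 ⟨(y : G), hyT⟩
    refine ⟨k, Subtype.ext ?_⟩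
    have h0 := congrArg Subtype.val hk
    simpa using h0
  have htb1 : (⟨psi ((VL L).subgroupOf L) y, Subgroup.mem_map_of_mem _ hyY⟩ :
      ↥((thompsonSubgroup 2 ↥L).map (psi ((VL L).subgroupOf L)))) ≠ 1 :=
    fun h => hψy (congrArg Subtype.val h)
  have htbk : (⟨psi ((VL L).subgroupOf L) y, Subgroup.mem_map_of_mem _ hyY⟩ :
      ↥((thompsonSubgroup 2 ↥L).map (psi ((VL L).subgroupOf L)))) ^ 2 ^ k = 1 := by
    apply Subtype.ext
    rw [Subgroup.coe_pow, Subgroup.coe_one, ← map_pow, hk, map_one]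
  obtain ⟨d, hd3, hdn, hdt⟩ := exists_order_three e _ htb1 k htbk
  have hnorm : ∀ h w : ↥((thompsonSubgroup 2 ↥L).map (psi ((VL L).subgroupOf L))),
      w ∈ Subgroup.zpowers d → h * w * h⁻¹ ∈ Subgroup.zpowers d := by
    intro h w hw
    obtain ⟨m, rfl⟩ := Subgroup.mem_zpowers_iff.mp hw
    rw [← conj_zpow]
    apply Subgroup.zpow_mem
    rcases hdn h with h1 | h1
    · rw [h1]; exact Subgroup.mem_zpowers d
    · rw [h1]; exact Subgroup.pow_mem _ (Subgroup.mem_zpowers d) 2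
  -- membership in the preimage
  have hmemD : ∀ x : ↥L, x ∈ ((Subgroup.zpowers d).map (Subgroup.subtype _)).comap
      (psi ((VL L).subgroupOf L)) ↔ ∃ w ∈ Subgroup.zpowers d,
        (w : Hol ((VL L).subgroupOf L)) = psi ((VL L).subgroupOf L) x := by
    intro x
    rw [Subgroup.mem_comap, Subgroup.mem_map]
    rfl
  have hconj : ∀ z ∈ thompsonSubgroup 2 ↥L, ∀ x ∈ ((Subgroup.zpowers d).map
      (Subgroup.subtype _)).comap (psi ((VL L).subgroupOf L)),
      z * x * z⁻¹ ∈ ((Subgroup.zpowers d).map (Subgroup.subtype _)).comap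
        (psi ((VL L).subgroupOf L)) := by
    intro z hz x hx
    rw [hmemD] at hx ⊢
    obtain ⟨w, hw, hwx⟩ := hx
    obtain ⟨zb, hzb⟩ : ∃ zb : ↥((thompsonSubgroup 2 ↥L).map (psi ((VL L).subgroupOf L))),
        (zb : Hol ((VL L).subgroupOf L)) = psi ((VL L).subgroupOf L) z :=
      ⟨⟨_, Subgroup.mem_map_of_mem _ hz⟩, rfl⟩
    refine ⟨zb * w * zb⁻¹, hnorm zb w hw, ?_⟩
    rw [map_mul, map_mul, map_inv, ← hwx, ← hzb, Subgroup.coe_mul, Subgroup.coe_mul,
      Subgroup.coe_inv]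
  refine ⟨(((Subgroup.zpowers d).map (Subgroup.subtype _)).comap
    (psi ((VL L).subgroupOf L))).map L.subtype, ?_, Subgroup.map_subtype_le _, ?_, ?_, ?_⟩
  · intro c hc
    refine ⟨⟨c, hc.1⟩, ?_, rfl⟩
    have h0 : psi ((VL L).subgroupOf L) ⟨c, hc.1⟩ = 1 := (hker ⟨c, hc.1⟩).mpr hc
    rw [SetLike.mem_coe, Subgroup.mem_comap, h0]
    exact Subgroup.one_mem _
  · have hCLmap : CL L = (psi ((VL L).subgroupOf L)).ker.map L.subtype := by
      ext c
      constructor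
      · intro hc
        have hcL : c ∈ L := (Subgroup.mem_inf.mp hc).1
        exact ⟨⟨c, hcL⟩, MonoidHom.mem_ker.mpr ((hker ⟨c, hcL⟩).mpr hc), rfl⟩
      · rintro ⟨x, hx, rfl⟩
        exact (hker x).mp (MonoidHom.mem_ker.mp hx)
    rw [hCLmap, Subgroup.relIndex_map_map_of_injective _ _ L.subtype_injective,
      Subgroup.relIndex_ker, Subgroup.map_comap_eq, inf_eq_right.mpr,
      Subgroup.card_map_of_injective (Subgroup.subtype_injective _), Nat.card_zpowers, hd3]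
    rintro _ ⟨w, -, rfl⟩
    obtain ⟨x, -, hx⟩ := w.2
    exact ⟨x, hx⟩
  · rintro _ ⟨z, hz, rfl⟩
    apply Cfsg.Agent.Lib.Helper85.KS12.mem_normalizer_of_conj_mem
    · rintro _ ⟨x, hx, rfl⟩
      exact ⟨z * x * z⁻¹, hconj z hz x hx, rfl⟩
    · rintro _ ⟨x, hx, rfl⟩
      refine ⟨z⁻¹ * x * z⁻¹⁻¹, hconj z⁻¹ (Subgroup.inv_mem _ hz) x hx, ?_⟩
      simp
  · intro hle
    obtain ⟨x₀, hx₀Y, hx₀⟩ := d.2
    have hx₀D : x₀ ∈ ((Subgroup.zpowers d).map (Subgroup.subtype _)).comap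
        (psi ((VL L).subgroupOf L)) := by
      rw [hmemD]
      exact ⟨d, Subgroup.mem_zpowers d, hx₀.symm⟩
    have hcm : ⁅(x₀ : G), (y : G)⁆ ∈ CL L :=
      hle (Subgroup.commutator_mem_commutator (Subgroup.mem_map_of_mem L.subtype hx₀D) htJ)
    have hcm' : psi ((VL L).subgroupOf L) ⁅x₀, y⁆ = 1 := (hker ⁅x₀, y⁆).mpr hcm
    rw [map_commutatorElement, commutatorElement_eq_one_iff_commute] at hcm'
    apply hdt
    apply Subtype.ext
    have h5 : psi ((VL L).subgroupOf L) y * (d : Hol ((VL L).subgroupOf L)) *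
        (psi ((VL L).subgroupOf L) y)⁻¹ = (d : Hol ((VL L).subgroupOf L)) := by
      rw [← hx₀, ← hcm'.eq, mul_inv_cancel_right]
    exact h5

end Cfsg.Agent.Lib.Helper97.KS12
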