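import Mathlib
import Cfsg.Agent.Lib.Helper97.KS12.SingleD
import Cfsg.Agent.Lib.Helper25.KS12.FF2Core
import Cfsg.Agent.Lib.Helper15.KS12.FourGroup

/-!
# Existence of a `J(T)`-component in `L ∈ jOvergroups T` (closed form of FF2)
-/

set_option autoImplicit false

namespace Cfsg.Agent.Lib.Helper97.KS12

open Cfsg Cfsg.Agent.Lib.Helper11 Cfsg.Agent.Lib.Helper2.KS12 Cfsg.Agent.Lib.Helper11.KS12

variable {G : Type*} [Group G] [Finite G]

/-- **FF2, closed.** Every `L ∈ jOvergroups T` (`T ≠ 1`) contains a `J(T)`-component; more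
precisely one with `K ⊔ C_L(V) = D` for a subgroup `D` as in `exists_D`. -/
theorem exists_jComponent (hN : ∀ N : Subgroup G, Cfsg.IsTwoLocal N → Group.IsSolvable ↥N)
    (hZ : ∀ S : Sylow 2 G, Subgroup.centralizer (Cfsg.omegaCenterOf (S : Subgroup G) : Set G) ≤
      Subgroup.normalizer ((S : Subgroup G) : Set G))
    {T L : Subgroup G} (hT1 : T ≠ ⊥) (hLT : L ∈ jOvergroups T) :
    ∃ K : Subgroup G, IsJComponent T K ∧ K ≤ L := by
  obtain ⟨D, hCD, hDL, hDC, hJD, hJDC⟩ := exists_D hN hZ hT1 hLT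
  obtain ⟨hT, -, hCQ⟩ := hLT
  obtain ⟨K, hK, hKD, -⟩ := Cfsg.Agent.Lib.Helper25.KS12.exists_jComponent_core T L
    (pCoreOf 2 L) (CL L) D hT (pCoreOf_le_of_isSylowTwoIn hT)
    (Cfsg.Agent.Lib.Helper47.le_normalizer_pCoreOf 2 L) (pCoreOf_le_CL L) hCD hDL
    (le_normalizer_CL L) (isSylowTwoIn_pCoreOf_CL hZ hT hCQ).2.2 (comm_CL_le hZ hT hCQ)
    (fun x hx hc => ⟨hDL hx, hc⟩) hDC ((thompsonSubgroupOf_le_of_isSylowTwoIn hT).trans hJD) hJDC
    (fun K h1 h2 h3 hWT hW =>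
      Cfsg.Agent.Lib.Helper15.KS12.card_wOf_eq_four T K h1 h2 h3 hWT hW)
  exact ⟨K, hK, hKD.trans hDL⟩

end Cfsg.Agent.Lib.Helper97.KS12
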