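import Mathlib
import Cfsg.Prelude.Def_JComponents
import Cfsg.Agent.Lib.Helper2.KS12.V4
import Cfsg.Agent.Lib.Helper81.KS12.S2950Core
import Cfsg.Agent.Lib.Helper81.KS12.S2952Core
import Cfsg.Agent.Lib.Helper11.ThompsonOf
import Cfsg.Agent.Lib.Helper47.Large

/-!
# KS12 / S2953, package (CJ): conjugating an outside `J(T)`-component

For `x ∈ M ∩ N_G(T)` the conjugate `K^x` of `K ∈ jComponentsOutside M T` is again in
`jComponentsOutside M T`; if `L` is the unique maximal 2-local subgroup over `K ⊔ J(T)` and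
`x ∉ L` then `K^x ≠ K` and `O₂(⟨K ⊔ T, K^x ⊔ T⟩) = 1`.
-/

set_option autoImplicit false

namespace Cfsg.Agent.Lib.Helper97.KS12

open Cfsg

universe u

variable {G : Type u} [Group G]

/-- (CJ1) Conjugation by an element of `M ∩ N_G(T)` preserves `jComponentsOutside M T`. -/
theorem jComponentsOutside_conj_of_mem_normalizer {M T K : Subgroup G} {x : G} (hxM : x ∈ M)
    (hxT : x ∈ Subgroup.normalizer (T : Set G)) (hK : K ∈ jComponentsOutside M T) :
    K.map (MulAut.conj x).toMonoidHom ∈ jComponentsOutside M T := by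
  have h := Cfsg.Agent.Lib.Helper81.KS12.jComponentsOutside_map_conj hxM hK
  rwa [Cfsg.Agent.Lib.Helper47.map_conj_eq_of_mem_normalizer hxT] at h

/-- (CJ2) If `L` is the only maximal 2-local subgroup containing `P₁` and `P₂ ≰ L`, then
`O₂(⟨P₁, P₂⟩) = 1`. -/
theorem pCoreOf_sup_eq_bot_of_unique [Finite G] {L P₁ P₂ : Subgroup G}
    (huniq : ∀ L' : Subgroup G, IsMaximalTwoLocal L' → P₁ ≤ L' → L' = L)
    (hP₂ : ¬ P₂ ≤ L) : pCoreOf 2 (P₁ ⊔ P₂) = ⊥ := by
  by_contra h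
  have hloc : IsTwoLocal (Subgroup.normalizer ((pCoreOf 2 (P₁ ⊔ P₂) : Subgroup G) : Set G)) :=
    ⟨_, Cfsg.Agent.Lib.Helper2.KS12.pCoreOf_two_isPGroup _, h, rfl⟩
  obtain ⟨L', hL', hle⟩ := Cfsg.Agent.Lib.Helper81.KS12.exists_isMaximalTwoLocal_ge hloc
  have hP : P₁ ⊔ P₂ ≤ L' :=
    (Cfsg.Agent.Lib.Helper47.le_normalizer_pCoreOf 2 (P₁ ⊔ P₂)).trans hle
  have hLL := huniq L' hL' (le_sup_left.trans hP)
  rw [hLL] at hP
  exact hP₂ (le_sup_right.trans hP)

/-- If `L` is the only maximal 2-local subgroup containing `P₁` and `x ∉ L`, then the conjugate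
`P₁^x` is not contained in `L`. -/
theorem map_conj_not_le_of_unique {L P₁ : Subgroup G} (hL : IsMaximalTwoLocal L)
    (huniq : ∀ L' : Subgroup G, IsMaximalTwoLocal L' → P₁ ≤ L' → L' = L) {x : G} (hx : x ∉ L) :
    ¬ P₁.map (MulAut.conj x).toMonoidHom ≤ L := by
  intro hle
  have h1 : P₁ ≤ L.map (MulAut.conj x⁻¹).toMonoidHom := by
    have h := Subgroup.map_mono (f := (MulAut.conj x⁻¹).toMonoidHom) hle
    rwa [Cfsg.Agent.Lib.Helper47.map_conj_inv_map_conj] at h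
  have h2 := huniq _ (Cfsg.Agent.Lib.Helper2.KS12.isMaximalTwoLocal_map_conj hL x⁻¹) h1
  have h3 : x⁻¹ ∈ Subgroup.normalizer (L : Set G) :=
    Subgroup.mem_normalizer_iff_map_conj_eq.mpr h2
  have h4 : x⁻¹ ∈ L := Cfsg.Agent.Lib.Helper2.KS12.normalizer_le_of_isMaximalTwoLocal hL h3
  exact hx (by simpa using L.inv_mem h4)

/-- (CJ3) `K^x ⊔ T ≰ L` for `x ∈ N_G(T) \ L`, when `L` is the only maximal 2-local subgroup
over `K ⊔ J(T)` (the uniqueness statement of S2950). -/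
theorem conj_sup_not_le {L T K : Subgroup G} (hL : IsMaximalTwoLocal L)
    (huniq : ∀ L' : Subgroup G, IsMaximalTwoLocal L' → K ⊔ thompsonSubgroupOf 2 T ≤ L' → L' = L)
    {x : G} (hxT : x ∈ Subgroup.normalizer (T : Set G)) (hx : x ∉ L) :
    ¬ K.map (MulAut.conj x).toMonoidHom ⊔ T ≤ L := by
  intro hle
  apply map_conj_not_le_of_unique hL huniq hx
  rw [Subgroup.map_sup]
  refine sup_le (le_sup_left.trans hle) ?_
  have h1 : (thompsonSubgroupOf 2 T).map (MulAut.conj x).toMonoidHom = thompsonSubgroupOf 2 T := by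
    rw [← Cfsg.Agent.Lib.Helper11.thompsonSubgroupOf_map 2 (MulAut.conj x).toMonoidHom
      (MulAut.conj x).injective T, Cfsg.Agent.Lib.Helper47.map_conj_eq_of_mem_normalizer hxT]
  rw [h1]
  exact (Cfsg.Agent.Lib.Helper11.thompsonSubgroupOf_le 2 T).trans (le_sup_right.trans hle)

/-- The uniqueness statement for `K ⊔ J(T)` gives the one for `K ⊔ T`. -/
theorem unique_sup_of_unique_thompson {L T K : Subgroup G}
    (huniq : ∀ L' : Subgroup G, IsMaximalTwoLocal L' → K ⊔ thompsonSubgroupOf 2 T ≤ L' → L' = L) :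
    ∀ L' : Subgroup G, IsMaximalTwoLocal L' → K ⊔ T ≤ L' → L' = L := by
  intro L' hL' hle
  exact huniq L' hL' (sup_le (le_sup_left.trans hle)
    ((Cfsg.Agent.Lib.Helper11.thompsonSubgroupOf_le 2 T).trans (le_sup_right.trans hle)))

/-- (CJ4) Two `J(T)`-components with `O₂(⟨K ⊔ T, K' ⊔ T⟩) = 1 ≠ O₂(K ⊔ T)` are distinct. -/
theorem ne_of_pCoreOf_sup_eq_bot {T K K' : Subgroup G} (hK : pCoreOf 2 (K ⊔ T) ≠ ⊥)
    (h : pCoreOf 2 ((K ⊔ T) ⊔ (K' ⊔ T)) = ⊥) : K' ≠ K := by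
  rintro rfl
  rw [sup_idem] at h
  exact hK h

/-- (CJ) Cases (a), (b) of S2953: for `K ∈ jComponentsOutside M T`, `L` the unique maximal 2-local
subgroup over `K ⊔ J(T)` and `x ∈ M ∩ N_G(T)` outside `L`, the conjugate `K^x` is a second member
of `jComponentsOutside M T`, different from `K`, with `O₂(⟨K ⊔ T, K^x ⊔ T⟩) = 1`. -/
theorem second_component_of_conj [Finite G] {M L T K : Subgroup G}
    (hK : K ∈ jComponentsOutside M T) (hL : IsMaximalTwoLocal L)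
    (huniq : ∀ L' : Subgroup G, IsMaximalTwoLocal L' → K ⊔ thompsonSubgroupOf 2 T ≤ L' → L' = L)
    {x : G} (hxM : x ∈ M) (hxT : x ∈ Subgroup.normalizer (T : Set G)) (hx : x ∉ L) :
    K ≠ K.map (MulAut.conj x).toMonoidHom ∧
      K.map (MulAut.conj x).toMonoidHom ∈ jComponentsOutside M T ∧
      pCoreOf 2 ((K ⊔ T) ⊔ (K.map (MulAut.conj x).toMonoidHom ⊔ T)) = ⊥ := by
  have h1 : pCoreOf 2 ((K ⊔ T) ⊔ (K.map (MulAut.conj x).toMonoidHom ⊔ T)) = ⊥ :=
    pCoreOf_sup_eq_bot_of_unique (unique_sup_of_unique_thompson huniq)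
      (conj_sup_not_le hL huniq hxT hx)
  exact ⟨(ne_of_pCoreOf_sup_eq_bot hK.2.2 h1).symm,
    jComponentsOutside_conj_of_mem_normalizer hxM hxT hK, h1⟩

/-- Case (c) of S2953: a component `K' ≰ L` next to a component `K` whose unique maximal 2-local
subgroup is `L`. -/
theorem second_component_of_not_le [Finite G] {L T K K' : Subgroup G}
    (hKO : pCoreOf 2 (K ⊔ T) ≠ ⊥)
    (huniq : ∀ L' : Subgroup G, IsMaximalTwoLocal L' → K ⊔ thompsonSubgroupOf 2 T ≤ L' → L' = L)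
    (hK' : ¬ K' ≤ L) :
    K ≠ K' ∧ pCoreOf 2 ((K ⊔ T) ⊔ (K' ⊔ T)) = ⊥ := by
  have h1 : pCoreOf 2 ((K ⊔ T) ⊔ (K' ⊔ T)) = ⊥ :=
    pCoreOf_sup_eq_bot_of_unique (unique_sup_of_unique_thompson huniq)
      (fun h => hK' (le_sup_left.trans h))
  exact ⟨(ne_of_pCoreOf_sup_eq_bot hKO h1).symm, h1⟩

end Cfsg.Agent.Lib.Helper97.KS12
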