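import Mathlib

/-!
# KS12 / S2953, the pure lemma AL: head (steps 1-3)

Setting of helper31's lemma AL (note 2993) with helper34's exact hypothesis list (note 3037)
plus `hWS : W ≤ S` (helper90, note 3047).  With `Q := T' ⊓ C_G(W')` we prove

* step 1: `W ≤ T'`;
* step 2: there is a four-group `W*` with the (P2) property, `W* ≤ T'`, `W* ≰ Q`;
* step 3: an involution `u ∈ T' \ Q` and `1 ≠ w0 ∈ W'` commuting with `u` such that every
  `Q`-conjugate of `u` is `u` or `u * w0`.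

These are exactly the extra hypotheses of the tail (steps 4-7b).
-/

set_option autoImplicit false

namespace Cfsg.Agent.Lib.Helper97.KS12.ALH

variable {G : Type*} [Group G]

/-- the conjugate subgroup `g V g⁻¹` -/
def cj (g : G) (V : Subgroup G) : Subgroup G := V.map (MulAut.conj g).toMonoidHom

theorem mem_cj {g y : G} {V : Subgroup G} : y ∈ cj g V ↔ g⁻¹ * y * g ∈ V := by
  unfold cj
  rw [Subgroup.mem_map_equiv]
  simp [MulAut.conj_symm_apply]

theorem card_cj (g : G) (V : Subgroup G) : Nat.card (cj g V) = Nat.card V :=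
  Subgroup.card_map_of_injective (MulAut.conj g).injective

theorem cj_mono (g : G) {V V' : Subgroup G} (h : V ≤ V') : cj g V ≤ cj g V' :=
  Subgroup.map_mono h

theorem le_normalizer_of_forall {A H : Subgroup G}
    (h : ∀ a ∈ A, ∀ y ∈ H, a * y * a⁻¹ ∈ H) : A ≤ Subgroup.normalizer (H : Set G) := by
  intro a ha
  rw [Subgroup.mem_normalizer_iff]
  intro y
  constructor
  · exact h a ha y
  · intro hy
    have := h a⁻¹ (A.inv_mem ha) _ hy
    have he : a⁻¹ * (a * y * a⁻¹) * a⁻¹⁻¹ = y := by group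
    rwa [he] at this

theorem mem_normalizer_fin [Finite G] {H : Subgroup G} {g : G}
    (h : ∀ y ∈ H, g * y * g⁻¹ ∈ H) : g ∈ Subgroup.normalizer (H : Set G) := by
  rw [Subgroup.mem_normalizer_iff_map_conj_eq]
  apply Subgroup.eq_of_le_of_card_ge
  · rintro _ ⟨y, hy, rfl⟩
    exact h y hy
  · exact (Subgroup.card_map_of_injective (MulAut.conj g).injective).ge

theorem comm_of_sq {V : Subgroup G} (h2 : ∀ w ∈ V, w * w = 1) {a b : G} (ha : a ∈ V)
    (hb : b ∈ V) : a * b = b * a := by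
  have h1 := h2 (a * b) (V.mul_mem ha hb)
  have hai : a⁻¹ = a := inv_eq_of_mul_eq_one_left (h2 a ha)
  have hbi : b⁻¹ = b := inv_eq_of_mul_eq_one_left (h2 b hb)
  calc a * b = (a * b)⁻¹ := (inv_eq_of_mul_eq_one_left h1).symm
    _ = b⁻¹ * a⁻¹ := mul_inv_rev a b
    _ = b * a := by rw [hai, hbi]

/-- the elements of a four-group -/
theorem v4_cases {V : Subgroup G} (h4 : Nat.card V = 4) (h2 : ∀ w ∈ V, w * w = 1)
    {z w : G} (hz : z ∈ V) (hw : w ∈ V) (hz1 : z ≠ 1) (hw1 : w ≠ 1) (hwz : w ≠ z) :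
    ∀ v ∈ V, v = 1 ∨ v = z ∨ v = w ∨ v = w * z := by
  classical
  intro v hv
  by_contra hcon
  push_neg at hcon
  obtain ⟨hv1, hvz, hvw, hvwz⟩ := hcon
  have hwz1 : w * z ≠ 1 := by
    intro h
    apply hwz
    calc w = w * (z * z) := by rw [h2 z hz, mul_one]
      _ = (w * z) * z := by group
      _ = z := by rw [h, one_mul]
  have hsub : ((({v, w * z, w, z, 1} : Finset G)) : Set G) ⊆ (V : Set G) := by
    intro y hy
    simp only [Finset.coe_insert, Finset.coe_singleton, Set.mem_insert_iff,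
      Set.mem_singleton_iff] at hy
    rcases hy with rfl | rfl | rfl | rfl | rfl
    · exact hv
    · exact V.mul_mem hw hz
    · exact hw
    · exact hz
    · exact V.one_mem
  haveI : Finite V := Nat.finite_of_card_ne_zero (by omega)
  have hfin : (V : Set G).Finite := Set.toFinite _
  have hle := Set.ncard_le_ncard hsub hfin
  rw [Set.ncard_coe_finset] at hle
  have h4' : (V : Set G).ncard = 4 := by
    rw [← h4]; exact (Nat.card_coe_set_eq (V : Set G)).symm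
  have hcard : ({v, w * z, w, z, 1} : Finset G).card = 5 := by
    rw [Finset.card_insert_of_notMem, Finset.card_insert_of_notMem,
      Finset.card_insert_of_notMem, Finset.card_insert_of_notMem, Finset.card_singleton]
    · simpa using hz1
    · simp [hwz, hw1]
    · simp [hz1, hw1, hwz1]
    · simp [hv1, hvz, hvw, hvwz]
  omega

theorem exists_third {V : Subgroup G} (h4 : Nat.card V = 4) (u : G) :
    ∃ v ∈ V, v ≠ 1 ∧ v ≠ u := by
  classical
  by_contra hcon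
  push_neg at hcon
  have hsub : (V : Set G) ⊆ ((({1, u} : Finset G)) : Set G) := by
    intro v hv
    by_cases h1 : v = 1
    · simp [h1]
    · simp [hcon v hv h1]
  have hle := Set.ncard_le_ncard hsub (Finset.finite_toSet _)
  rw [Set.ncard_coe_finset] at hle
  have h4' : (V : Set G).ncard = 4 := by
    rw [← h4]; exact (Nat.card_coe_set_eq (V : Set G)).symm
  have hc : ({1, u} : Finset G).card ≤ 2 := Finset.card_le_two
  omega

/-- a four-group with the (P2) property: centralizers of its involutions normalize it -/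
def IsV4P (V : Subgroup G) : Prop :=
  Nat.card V = 4 ∧ (∀ w ∈ V, w * w = 1) ∧
    ∀ u ∈ V, u ≠ 1 → Subgroup.centralizer ({u} : Set G) ≤ Subgroup.normalizer (V : Set G)

theorem IsV4P.conj {V : Subgroup G} (h : IsV4P V) (g : G) : IsV4P (cj g V) := by
  obtain ⟨h4, h2, hP⟩ := h
  refine ⟨by rw [card_cj, h4], ?_, ?_⟩
  · intro w hw
    rw [mem_cj] at hw
    have h' : g⁻¹ * (w * w) * g = 1 := by
      rw [← h2 _ hw]; group
    calc w * w = g * (g⁻¹ * (w * w) * g) * g⁻¹ := by group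
      _ = 1 := by rw [h']; group
  · intro u hu hu1 c hc
    rw [mem_cj] at hu
    have hu1' : g⁻¹ * u * g ≠ 1 := by
      intro h'
      apply hu1
      calc u = g * (g⁻¹ * u * g) * g⁻¹ := by group
        _ = 1 := by rw [h']; group
    have hc' : g⁻¹ * c * g ∈ Subgroup.centralizer ({g⁻¹ * u * g} : Set G) := by
      rw [Subgroup.mem_centralizer_iff] at hc ⊢
      intro y hy
      rw [Set.mem_singleton_iff] at hy
      subst hy
      have := hc u (Set.mem_singleton u)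
      calc g⁻¹ * u * g * (g⁻¹ * c * g) = g⁻¹ * (u * c) * g := by group
        _ = g⁻¹ * (c * u) * g := by rw [this]
        _ = g⁻¹ * c * g * (g⁻¹ * u * g) := by group
    have hn := hP _ hu hu1' hc'
    rw [Subgroup.mem_normalizer_iff] at hn ⊢
    intro y
    rw [mem_cj, mem_cj, hn (g⁻¹ * y * g)]
    have he : g⁻¹ * c * g * (g⁻¹ * y * g) * (g⁻¹ * c * g)⁻¹ = g⁻¹ * (c * y * c⁻¹) * g := by
      group
    rw [he]

/-- Step 1: `W ≤ T'` (together with `T' ≤ N(Q)` and `W' ≤ Q`). -/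
theorem step1 [Finite G] {S T' K' W W' : Subgroup G} {z : G}
    (hW4 : Nat.card W = 4) (hW2 : ∀ w ∈ W, w * w = 1)
    (hSW : S ≤ Subgroup.normalizer (W : Set G))
    (hzW : z ∈ W) (hz1 : z ≠ 1) (hzS : ∀ s ∈ S, s * z = z * s)
    (hT'S : T' ≤ S)
    (hW'4 : Nat.card W' = 4) (hW'2 : ∀ w ∈ W', w * w = 1)
    (hT'W' : T' ≤ Subgroup.normalizer (W' : Set G)) (hW'T' : W' ≤ T')
    (hK'Q : K' ≤ Subgroup.normalizer
      ((T' ⊓ Subgroup.centralizer (W' : Set G) : Subgroup G) : Set G))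
    (hKP : ∀ X : Subgroup G, X ≠ ⊥ → X ≤ T' → K' ≤ Subgroup.normalizer (X : Set G) →
      T' ≤ Subgroup.normalizer (X : Set G) →
      ∀ s ∈ S, s ∈ Subgroup.normalizer (X : Set G) → s ∈ T')
    (hWS : W ≤ S) :
    W ≤ T' ∧
      T' ≤ Subgroup.normalizer ((T' ⊓ Subgroup.centralizer (W' : Set G) : Subgroup G) : Set G) ∧
      W' ≤ T' ⊓ Subgroup.centralizer (W' : Set G) := by
  have hW'Q : W' ≤ T' ⊓ Subgroup.centralizer (W' : Set G) := by
    intro a ha
    refine Subgroup.mem_inf.mpr ⟨hW'T' ha, ?_⟩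
    rw [Subgroup.mem_centralizer_iff]
    intro b hb
    exact comm_of_sq hW'2 hb ha
  have hQne : (T' ⊓ Subgroup.centralizer (W' : Set G) : Subgroup G) ≠ ⊥ := by
    intro h
    rw [h, le_bot_iff] at hW'Q
    rw [hW'Q, Subgroup.card_bot] at hW'4
    omega
  have hT'Q : T' ≤ Subgroup.normalizer
      ((T' ⊓ Subgroup.centralizer (W' : Set G) : Subgroup G) : Set G) := by
    apply le_normalizer_of_forall
    intro t ht q hq
    obtain ⟨hq1, hq2⟩ := Subgroup.mem_inf.mp hq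
    refine Subgroup.mem_inf.mpr ⟨T'.mul_mem (T'.mul_mem ht hq1) (T'.inv_mem ht), ?_⟩
    rw [Subgroup.mem_centralizer_iff] at hq2 ⊢
    intro a ha
    have ha' : t⁻¹ * a * t ∈ W' := (Subgroup.mem_normalizer_iff''.mp (hT'W' ht) a).mp ha
    have := hq2 _ ha'
    calc a * (t * q * t⁻¹) = t * ((t⁻¹ * a * t) * q) * t⁻¹ := by group
      _ = t * (q * (t⁻¹ * a * t)) * t⁻¹ := by rw [this]
      _ = t * q * t⁻¹ * a := by group
  have hzN : z ∈ Subgroup.normalizer
      ((T' ⊓ Subgroup.centralizer (W' : Set G) : Subgroup G) : Set G) := by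
    apply mem_normalizer_fin
    intro q hq
    have := hzS q (hT'S (Subgroup.mem_inf.mp hq).1)
    rw [← this, mul_inv_cancel_right]
    exact hq
  have hzT' : z ∈ T' := hKP _ hQne inf_le_left hK'Q hT'Q z (hWS hzW) hzN
  have hzQ : z ∈ T' ⊓ Subgroup.centralizer (W' : Set G) := by
    refine Subgroup.mem_inf.mpr ⟨hzT', ?_⟩
    rw [Subgroup.mem_centralizer_iff]
    intro a ha
    exact hzS a (hT'S (hW'T' ha))
  have hWN : W ≤ Subgroup.normalizer
      ((T' ⊓ Subgroup.centralizer (W' : Set G) : Subgroup G) : Set G) := by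
    apply le_normalizer_of_forall
    intro w hw q hq
    have hqS : q ∈ S := hT'S (Subgroup.mem_inf.mp hq).1
    by_cases hw1 : w = 1
    · subst hw1
      simpa using hq
    by_cases hwz : w = z
    · subst hwz
      have := hzS q hqS
      rw [← this, mul_inv_cancel_right]
      exact hq
    have hv : q * w⁻¹ * q⁻¹ ∈ W :=
      (Subgroup.mem_normalizer_iff.mp (hSW hqS) w⁻¹).mp (W.inv_mem hw)
    have hwi : w⁻¹ = w := inv_eq_of_mul_eq_one_left (hW2 w hw)
    have hc : w * q * w⁻¹ = (w * (q * w⁻¹ * q⁻¹)) * q := by group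
    rw [hc]
    refine Subgroup.mul_mem _ ?_ hq
    rcases v4_cases hW4 hW2 hzW hw hz1 hw1 hwz _ hv with h | h | h | h
    · exfalso
      apply hw1
      have h1 : w⁻¹ = 1 := by
        calc w⁻¹ = q⁻¹ * (q * w⁻¹ * q⁻¹) * q := by group
          _ = 1 := by rw [h]; group
      exact inv_eq_one.mp h1
    · exfalso
      apply hwz
      have h1 : w⁻¹ = z := by
        calc w⁻¹ = q⁻¹ * (q * w⁻¹ * q⁻¹) * q := by group
          _ = q⁻¹ * z * q := by rw [h]
          _ = q⁻¹ * (z * q) := by group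
          _ = q⁻¹ * (q * z) := by rw [hzS q hqS]
          _ = z := by group
      rw [← hwi]
      exact h1
    · rw [h, hW2 w hw]
      exact Subgroup.one_mem _
    · rw [h, ← mul_assoc, hW2 w hw, one_mul]
      exact hzQ
  exact ⟨fun w hw => hKP _ hQne inf_le_left hK'Q hT'Q w (hWS hw) (hWN hw), hT'Q, hW'Q⟩

/-- Step 2: a four-group with (P2) inside `T'` but not inside `Q`. -/
theorem step2 [Finite G] {S T' K' W Q : Subgroup G} {x : G}
    (hV : IsV4P W) (hWT' : W ≤ T') (hQT' : Q ≤ T')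
    (hSW : S ≤ Subgroup.normalizer (W : Set G))
    (hK'Q : K' ≤ Subgroup.normalizer (Q : Set G))
    (hT'Q : T' ≤ Subgroup.normalizer (Q : Set G))
    (hxS : x ∈ S) (hxT' : x ∈ Subgroup.normalizer (T' : Set G)) (hxn : x ∉ T')
    (hx2 : x * x ∈ T')
    (hKP : ∀ X : Subgroup G, X ≠ ⊥ → X ≤ T' → K' ≤ Subgroup.normalizer (X : Set G) →
      T' ≤ Subgroup.normalizer (X : Set G) →
      ∀ s ∈ S, s ∈ Subgroup.normalizer (X : Set G) → s ∈ T') :
    ∃ Ws : Subgroup G, IsV4P Ws ∧ Ws ≤ T' ∧ ¬ Ws ≤ Q := by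
  by_cases hWQ : W ≤ Q
  swap
  · exact ⟨W, hV, hWT', hWQ⟩
  obtain ⟨D, hD⟩ : ∃ D : Subgroup G, D = Q ⊓ cj x Q := ⟨_, rfl⟩
  obtain ⟨X, hX⟩ : ∃ X : Subgroup G, X = sSup {V : Subgroup G | IsV4P V ∧ V ≤ D} := ⟨_, rfl⟩
  have hDQ : D ≤ Q := hD ▸ inf_le_left
  have hDQx : D ≤ cj x Q := hD ▸ inf_le_right
  have hDmem : ∀ y : G, y ∈ Q → y ∈ cj x Q → y ∈ D := by
    intro y h1 h2
    rw [hD]
    exact Subgroup.mem_inf.mpr ⟨h1, h2⟩
  have hWD : W ≤ D := by
    intro w hw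
    refine hDmem w (hWQ hw) ?_
    rw [mem_cj]
    apply hWQ
    exact (Subgroup.mem_normalizer_iff''.mp (hSW hxS) w).mp hw
  have hWX : W ≤ X := by
    rw [hX]
    exact le_sSup ⟨hV, hWD⟩
  have hXD : X ≤ D := by
    rw [hX]
    exact sSup_le fun V hV' => hV'.2
  have hXne : X ≠ ⊥ := by
    intro h
    rw [h, le_bot_iff] at hWX
    have h4 := hV.1
    rw [hWX, Subgroup.card_bot] at h4
    omega
  have key : ∀ g : G, (∀ V : Subgroup G, IsV4P V → V ≤ D → cj g V ≤ D) →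
      ∀ y ∈ X, g * y * g⁻¹ ∈ X := by
    intro g hg
    have h1 : X ≤ (X.comap (MulAut.conj g).toMonoidHom) := by
      conv_lhs => rw [hX]
      apply sSup_le
      intro V hV'
      rw [← Subgroup.map_le_iff_le_comap, hX]
      exact le_sSup ⟨hV'.1.conj g, hg V hV'.1 hV'.2⟩
    intro y hy
    exact h1 hy
  have hDT : ∀ t ∈ T', cj t D ≤ D := by
    intro t ht y hy
    rw [mem_cj] at hy
    have hy1 := hDQ hy
    have hy2 := hDQx hy
    rw [mem_cj] at hy2
    refine hDmem y ?_ ?_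
    · have := (Subgroup.mem_normalizer_iff.mp (hT'Q ht) _).mp hy1
      have he : t * (t⁻¹ * y * t) * t⁻¹ = y := by group
      rwa [he] at this
    · rw [mem_cj]
      have hxt : x⁻¹ * t * x ∈ T' := (Subgroup.mem_normalizer_iff''.mp hxT' t).mp ht
      have := (Subgroup.mem_normalizer_iff.mp (hT'Q hxt) _).mp hy2
      have he : x⁻¹ * t * x * (x⁻¹ * (t⁻¹ * y * t) * x) * (x⁻¹ * t * x)⁻¹ = x⁻¹ * y * x := by
        group
      rwa [he] at this
  have hDx : cj x D ≤ D := by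
    intro y hy
    rw [mem_cj] at hy
    have hy1 := hDQ hy
    have hy2 := hDQx hy
    rw [mem_cj] at hy2
    refine hDmem y ?_ ?_
    · have := (Subgroup.mem_normalizer_iff.mp (hT'Q hx2) _).mp hy2
      have he : x * x * (x⁻¹ * (x⁻¹ * y * x) * x) * (x * x)⁻¹ = y := by group
      rwa [he] at this
    · rw [mem_cj]
      exact hy1
  have hT'X : T' ≤ Subgroup.normalizer (X : Set G) := by
    apply le_normalizer_of_forall
    intro t ht y hy
    exact key t (fun V _ hVD => (cj_mono t hVD).trans (hDT t ht)) y hy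
  have hxX : x ∈ Subgroup.normalizer (X : Set G) :=
    mem_normalizer_fin (key x (fun V _ hVD => (cj_mono x hVD).trans hDx))
  have hK'X : ¬ K' ≤ Subgroup.normalizer (X : Set G) := fun h =>
    hxn (hKP X hXne (hXD.trans (hDQ.trans hQT')) h hT'X x hxS hxX)
  have hex : ∃ k ∈ K', ∃ V : Subgroup G, IsV4P V ∧ V ≤ D ∧ ¬ cj k V ≤ D := by
    by_contra hcon
    push_neg at hcon
    apply hK'X
    apply le_normalizer_of_forall
    intro k hk y hy
    exact key k (fun V hV1 hVD => hcon k hk V hV1 hVD) y hy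
  obtain ⟨k, hk, V, hV1, hVD, hkV⟩ := hex
  have hkVQ : cj k V ≤ Q := by
    intro y hy
    rw [mem_cj] at hy
    have hy' : k⁻¹ * y * k ∈ Q := hDQ (hVD hy)
    have := (Subgroup.mem_normalizer_iff.mp (hK'Q hk) _).mp hy'
    have he : k * (k⁻¹ * y * k) * k⁻¹ = y := by group
    rwa [he] at this
  have hkVx : ¬ cj k V ≤ cj x Q := fun h => hkV (fun y hy => hDmem y (hkVQ hy) (h hy))
  refine ⟨cj x⁻¹ (cj k V), (hV1.conj k).conj x⁻¹, ?_, ?_⟩
  · intro y hy
    rw [mem_cj, inv_inv] at hy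
    have h1 : x * y * x⁻¹ ∈ T' := hQT' (hkVQ hy)
    have := (Subgroup.mem_normalizer_iff''.mp hxT' _).mp h1
    have he : x⁻¹ * (x * y * x⁻¹) * x = y := by group
    rwa [he] at this
  · intro hle
    apply hkVx
    intro y hy
    rw [mem_cj]
    apply hle
    rw [mem_cj, inv_inv]
    have he : x * (x⁻¹ * y * x) * x⁻¹ = y := by group
    rwa [he]

/-- Step 3: the involution `u` and the element `w0`. -/
theorem step3 [Finite G] {T' W' Ws : Subgroup G}
    (hV : IsV4P Ws) (hWsT' : Ws ≤ T')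
    (hWsQ : ¬ Ws ≤ T' ⊓ Subgroup.centralizer (W' : Set G))
    (hW'2 : ∀ w ∈ W', w * w = 1)
    (hT'W' : T' ≤ Subgroup.normalizer (W' : Set G))
    (hW'Q : W' ≤ T' ⊓ Subgroup.centralizer (W' : Set G))
    (hQidx : (T' ⊓ Subgroup.centralizer (W' : Set G)).relIndex T' = 2) :
    ∃ u w0 : G, u ∈ T' ∧ u ∉ T' ⊓ Subgroup.centralizer (W' : Set G) ∧ u * u = 1 ∧ w0 ∈ W' ∧
      w0 ≠ 1 ∧ u * w0 = w0 * u ∧
      ∀ q ∈ T' ⊓ Subgroup.centralizer (W' : Set G), q * u * q⁻¹ = u ∨ q * u * q⁻¹ = u * w0 := by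
  obtain ⟨h4, h2, hP⟩ := hV
  obtain ⟨u, huW, huQ⟩ := SetLike.not_le_iff_exists.mp hWsQ
  have huT : u ∈ T' := hWsT' huW
  have hu2 : u * u = 1 := h2 u huW
  have hui : u⁻¹ = u := inv_eq_of_mul_eq_one_left hu2
  have hu1 : u ≠ 1 := by
    rintro rfl
    exact huQ (Subgroup.one_mem _)
  have hex : ∃ a ∈ W', a * u ≠ u * a := by
    by_contra hcon
    push_neg at hcon
    apply huQ
    refine Subgroup.mem_inf.mpr ⟨huT, ?_⟩
    rw [Subgroup.mem_centralizer_iff]
    exact hcon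
  obtain ⟨a, ha, hau⟩ := hex
  have hai : a⁻¹ = a := inv_eq_of_mul_eq_one_left (hW'2 a ha)
  have hua : u * a * u⁻¹ ∈ W' := (Subgroup.mem_normalizer_iff.mp (hT'W' huT) a).mp ha
  obtain ⟨w0, hw0⟩ : ∃ w0 : G, w0 = a * (u * a * u⁻¹) := ⟨_, rfl⟩
  have hw0W' : w0 ∈ W' := by
    rw [hw0]
    exact W'.mul_mem ha hua
  have hw01 : w0 ≠ 1 := by
    intro h
    apply hau
    rw [hw0] at h
    have h1 : a⁻¹ = u * a * u⁻¹ := inv_eq_of_mul_eq_one_right h
    rw [hai] at h1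
    calc a * u = u * a * u⁻¹ * u := by rw [← h1]
      _ = u * a := by group
  have hcomm : a * (u * a * u⁻¹) = (u * a * u⁻¹) * a := comm_of_sq hW'2 ha hua
  have huw0 : u * w0 = w0 * u := by
    have h1 : u * w0 * u⁻¹ = w0 := by
      calc u * w0 * u⁻¹ = u * ((u * a * u⁻¹) * a) * u⁻¹ := by rw [hw0, hcomm]
        _ = (u * u) * a * (u⁻¹ * a * u⁻¹) := by group
        _ = a * (u * a * u⁻¹) := by rw [hu2, one_mul, hui]
        _ = w0 := hw0.symm
    calc u * w0 = u * w0 * u⁻¹ * u := by group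
      _ = w0 * u := by rw [h1]
  have hidx : ∀ b ∈ T', ∀ c ∈ T',
      (b * c ∈ T' ⊓ Subgroup.centralizer (W' : Set G) ↔
        (b ∈ T' ⊓ Subgroup.centralizer (W' : Set G) ↔
          c ∈ T' ⊓ Subgroup.centralizer (W' : Set G))) := by
    intro b hb c hc
    have := Subgroup.mul_mem_iff_of_index_two
      (H := (T' ⊓ Subgroup.centralizer (W' : Set G)).subgroupOf T') hQidx
      (a := ⟨b, hb⟩) (b := ⟨c, hc⟩)
    rw [Subgroup.mem_subgroupOf, Subgroup.mem_subgroupOf, Subgroup.mem_subgroupOf] at this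
    exact this
  -- a nonidentity element of `Ws ∩ Q`
  have hu0 : ∃ u0 ∈ Ws, u0 ∈ T' ⊓ Subgroup.centralizer (W' : Set G) ∧ u0 ≠ 1 := by
    obtain ⟨v, hvW, hv1, hvu⟩ := exists_third h4 u
    by_cases hvQ : v ∈ T' ⊓ Subgroup.centralizer (W' : Set G)
    · exact ⟨v, hvW, hvQ, hv1⟩
    · refine ⟨u * v, Ws.mul_mem huW hvW, ?_, ?_⟩
      · rw [hidx u huT v (hWsT' hvW)]
        exact ⟨fun h => absurd h huQ, fun h => absurd h hvQ⟩
      · intro h
        apply hvu
        have : u⁻¹ = v := inv_eq_of_mul_eq_one_right h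
        rw [← this, hui]
  obtain ⟨u0, hu0W, hu0Q, hu01⟩ := hu0
  have hW'N : W' ≤ Subgroup.normalizer (Ws : Set G) := by
    intro b hb
    apply hP u0 hu0W hu01
    rw [Subgroup.mem_centralizer_iff]
    intro y hy
    rw [Set.mem_singleton_iff] at hy
    subst hy
    exact ((Subgroup.mem_centralizer_iff.mp (Subgroup.mem_inf.mp hu0Q).2) b hb).symm
  have hw0Ws : w0 ∈ Ws := by
    have h1 : a * u * a⁻¹ ∈ Ws := (Subgroup.mem_normalizer_iff.mp (hW'N ha) u).mp huW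
    have h3 : w0 = a * u * a⁻¹ * u⁻¹ := by
      calc w0 = a * u * a * u⁻¹ := by rw [hw0]; group
        _ = a * u * a⁻¹ * u⁻¹ := by rw [hai]
    rw [h3]
    exact Ws.mul_mem h1 (Ws.inv_mem huW)
  have huw0ne : u ≠ w0 := by
    intro h
    apply huQ
    rw [h]
    exact hW'Q hw0W'
  refine ⟨u, w0, huT, huQ, hu2, hw0W', hw01, huw0, ?_⟩
  intro q hq
  have hqw0 : w0 * q = q * w0 :=
    (Subgroup.mem_centralizer_iff.mp (Subgroup.mem_inf.mp hq).2) w0 hw0W'
  have hqN : q ∈ Subgroup.normalizer (Ws : Set G) := by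
    apply hP w0 hw0Ws hw01
    rw [Subgroup.mem_centralizer_iff]
    intro y hy
    rw [Set.mem_singleton_iff] at hy
    subst hy
    exact hqw0
  have hquW : q * u * q⁻¹ ∈ Ws := (Subgroup.mem_normalizer_iff.mp hqN u).mp huW
  rcases v4_cases h4 h2 hw0Ws huW hw01 hu1 huw0ne _ hquW with h | h | h | h
  · exfalso
    apply hu1
    calc u = q⁻¹ * (q * u * q⁻¹) * q := by group
      _ = 1 := by rw [h]; group
  · exfalso
    apply huw0ne
    calc u = q⁻¹ * (q * u * q⁻¹) * q := by group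
      _ = q⁻¹ * w0 * q := by rw [h]
      _ = q⁻¹ * (w0 * q) := by group
      _ = q⁻¹ * (q * w0) := by rw [hqw0]
      _ = w0 := by group
  · exact Or.inl h
  · exact Or.inr h

end Cfsg.Agent.Lib.Helper97.KS12.ALH

namespace Cfsg.Agent.Lib.Helper97.KS12

variable {G : Type*} [Group G]

/-- **AL, head (steps 1-3).**  Hypotheses: helper34's `al` list verbatim, plus `hWS`. -/
theorem al_head [Finite G] (S T' K' W W' : Subgroup G) (x z : G)
    (hW4 : Nat.card ↥W = 4) (hW2 : ∀ w ∈ W, w * w = 1) (hSW : S ≤ Subgroup.normalizer (W : Set G))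
    (hzW : z ∈ W) (hz1 : z ≠ 1) (hzS : ∀ s ∈ S, s * z = z * s)
    (hP2 : ∀ u ∈ W, u ≠ 1 → Subgroup.centralizer ({u} : Set G) ≤ Subgroup.normalizer (W : Set G))
    (hT'S : T' ≤ S) (hT'K' : T' ≤ Subgroup.normalizer (K' : Set G))
    (hW'4 : Nat.card ↥W' = 4) (hW'2 : ∀ w ∈ W', w * w = 1)
    (hK'W' : K' ≤ Subgroup.normalizer (W' : Set G)) (hT'W' : T' ≤ Subgroup.normalizer (W' : Set G)) (hW'T' : W' ≤ T')
    (hQidx : (T' ⊓ Subgroup.centralizer (W' : Set G)).relIndex T' = 2)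
    (hK'Q : K' ≤ Subgroup.normalizer ((T' ⊓ Subgroup.centralizer (W' : Set G) : Subgroup G) : Set G))
    (hcomm : ⁅K', T'⁆ = K')
    (hK'idx : (K' ⊓ Subgroup.centralizer (W' : Set G)).relIndex K' = 3)
    (hK'C : K' ⊓ Subgroup.centralizer (W' : Set G) ≤ T')
    (hfp : ∃ k ∈ K', ∀ w ∈ W', k * w * k⁻¹ = w → w = 1)
    (hxS : x ∈ S) (hxT' : x ∈ Subgroup.normalizer (T' : Set G)) (hxn : x ∉ T') (hx2 : x * x ∈ T')
    (hKP : ∀ X : Subgroup G, X ≠ ⊥ → X ≤ T' → K' ≤ Subgroup.normalizer (X : Set G) → T' ≤ Subgroup.normalizer (X : Set G) → ∀ s ∈ S, s ∈ Subgroup.normalizer (X : Set G) → s ∈ T')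
    (hno : ∀ c ∈ W, c ≠ 1 → ¬ K' ≤ Subgroup.centralizer ({c} : Set G))
    (hWS : W ≤ S) :
    W ≤ T' ∧ ∃ u w0 : G, u ∈ T' ∧ u ∉ T' ⊓ Subgroup.centralizer (W' : Set G) ∧ u * u = 1 ∧
      w0 ∈ W' ∧ w0 ≠ 1 ∧ u * w0 = w0 * u ∧
      ∀ q ∈ T' ⊓ Subgroup.centralizer (W' : Set G), q * u * q⁻¹ = u ∨ q * u * q⁻¹ = u * w0 := by
  obtain ⟨hWT', hT'Q, hW'Q⟩ :=
    ALH.step1 hW4 hW2 hSW hzW hz1 hzS hT'S hW'4 hW'2 hT'W' hW'T' hK'Q hKP hWS
  obtain ⟨Ws, hWs, hWsT', hWsQ⟩ :=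
    ALH.step2 (Q := T' ⊓ Subgroup.centralizer (W' : Set G)) ⟨hW4, hW2, hP2⟩ hWT' inf_le_left
      hSW hK'Q hT'Q hxS hxT' hxn hx2 hKP
  exact ⟨hWT', ALH.step3 hWs hWsT' hWsQ hW'2 hT'W' hW'Q hQidx⟩

end Cfsg.Agent.Lib.Helper97.KS12
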