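import Mathlib
import Cfsg.Agent.Lib.Helper97.KS12.S2944Key
import Cfsg.Agent.Lib.Helper81.KS12.S2952Core
import Cfsg.Agent.Lib.Helper16.BG.NilHall

/-!
# S2944, second part: `K` is a `J(Tᵍ)`-component whenever `J(Tᵍ) ≤ N_G(W_K)`
-/

set_option autoImplicit false

namespace Cfsg.Agent.Lib.Helper97.KS12

open Cfsg Cfsg.Agent.Lib.Helper11

variable {G : Type*} [Group G]

/-- `m(T^φ) = m(T)`. -/
theorem maxElemAbelianOrder_map [Finite G] (T : Subgroup G) (φ : G ≃* G) :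
    maxElemAbelianOrder (T.map φ.toMonoidHom) = maxElemAbelianOrder T := by
  obtain ⟨A, hA⟩ := maxElemAbIn_nonempty 2 T
  have hA' : A.map φ.toMonoidHom ∈ maxElemAbIn 2 (T.map φ.toMonoidHom) := by
    rw [maxElemAbIn_map 2 φ.toMonoidHom φ.injective]
    exact ⟨A, hA, rfl⟩
  rw [maxElemAbelianOrder_eq hA, maxElemAbelianOrder_eq hA',
    Subgroup.card_map_of_injective φ.injective]

/-- Second part of S2944. -/
theorem isJComponent_conj_of_le [Finite G] (hL : IsCharacteristicTwoType G)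
    (hN : ∀ N : Subgroup G, Cfsg.IsTwoLocal N → Group.IsSolvable ↥N)
    (hZ : ∀ S : Sylow 2 G, Subgroup.centralizer (Cfsg.omegaCenterOf (S : Subgroup G) : Set G) ≤
      Subgroup.normalizer ((S : Subgroup G) : Set G))
    (T : Subgroup G) (hT : IsPGroup 2 T) (hT1 : T ≠ ⊥) (K : Subgroup G)
    (hK : K ∈ jComponentsZero T) (g : G)
    (hg : thompsonSubgroupOf 2 (T.map (MulAut.conj g).toMonoidHom) ≤
      Subgroup.normalizer (wOf K : Set G)) :
    IsJComponent (T.map (MulAut.conj g).toMonoidHom) K := by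
  have : Fact (Nat.Prime 2) := ⟨Nat.prime_two⟩
  have hNK := normalizer_wOf_le hL hN hZ T hT hT1 K hK
  obtain ⟨hKJ, hKz⟩ := hK
  have hJT : thompsonSubgroupOf 2 T ≤ T := thompsonSubgroupOf_le 2 T
  have hJ2 : IsPGroup 2 (thompsonSubgroupOf 2 T) := hT.to_le hJT
  have hJN := Cfsg.Agent.Lib.Helper81.KS12.isJComponent_thompson_le_normalizer_wOf hKJ
  obtain ⟨S₁, hS₁, hJS₁⟩ := Cfsg.Agent.Lib.Helper85.KS12.exists_isSylowTwoIn_ge hJ2 hJN
  have hJeq : thompsonSubgroupOf 2 S₁ = thompsonSubgroupOf 2 T := hKz S₁ hJS₁ hS₁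
  have hsyl : ¬ 2 ∣ S₁.relIndex (Subgroup.normalizer (wOf K : Set G)) := fun h2 =>
    (Nat.not_even_iff_odd.mpr hS₁.2.2) (even_iff_two_dvd.mpr h2)
  have hTg2 : IsPGroup 2 (T.map (MulAut.conj g).toMonoidHom) := hT.map _
  have hJg2 : IsPGroup 2 (thompsonSubgroupOf 2 (T.map (MulAut.conj g).toMonoidHom)) :=
    hTg2.to_le (thompsonSubgroupOf_le 2 _)
  obtain ⟨d, hd, hdS⟩ := Cfsg.Agent.Lib.Helper16.BG.rel_sylow_conj _ _ S₁ hg hJg2 hS₁.2.1 hsyl
  have hJg : thompsonSubgroupOf 2 (T.map (MulAut.conj g).toMonoidHom) =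
      (thompsonSubgroupOf 2 T).map (MulAut.conj g).toMonoidHom :=
    thompsonSubgroupOf_map 2 _ (MulAut.conj g).injective T
  have hJh : thompsonSubgroupOf 2 (T.map (MulAut.conj (d * g)).toMonoidHom) =
      (thompsonSubgroupOf 2 T).map (MulAut.conj (d * g)).toMonoidHom :=
    thompsonSubgroupOf_map 2 _ (MulAut.conj (d * g)).injective T
  have hJhS : thompsonSubgroupOf 2 (T.map (MulAut.conj (d * g)).toMonoidHom) ≤ S₁ := by
    rw [hJh]
    rintro _ ⟨j, hj, rfl⟩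
    have h1 : g * j * g⁻¹ ∈ thompsonSubgroupOf 2 (T.map (MulAut.conj g).toMonoidHom) := by
      rw [hJg]; exact ⟨j, hj, rfl⟩
    have h2 := hdS _ h1
    have e : (MulAut.conj (d * g)).toMonoidHom j = d * (g * j * g⁻¹) * d⁻¹ := by
      simp [MulAut.conj_apply, mul_assoc]
    rw [e]; exact h2
  have hm : maxElemAbelianOrder S₁ ≤
      maxElemAbelianOrder (T.map (MulAut.conj (d * g)).toMonoidHom) := by
    rw [maxElemAbelianOrder_map]
    apply maxElemAbelianOrder_le_of_thompson_le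
    rw [hJeq]; exact hJT
  have hle := thompson_le_thompson_of_le hJhS hm
  rw [hJeq] at hle
  have hcard : Nat.card (thompsonSubgroupOf 2 T) ≤
      Nat.card (thompsonSubgroupOf 2 (T.map (MulAut.conj (d * g)).toMonoidHom)) := by
    rw [hJh, Subgroup.card_map_of_injective (MulAut.conj (d * g)).injective]
  have hJhEq : thompsonSubgroupOf 2 (T.map (MulAut.conj (d * g)).toMonoidHom) =
      thompsonSubgroupOf 2 T := Subgroup.eq_of_le_of_card_ge hle hcard
  have hJd : thompsonSubgroupOf 2 (T.map (MulAut.conj d⁻¹).toMonoidHom) =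
      (thompsonSubgroupOf 2 T).map (MulAut.conj d⁻¹).toMonoidHom :=
    thompsonSubgroupOf_map 2 _ (MulAut.conj d⁻¹).injective T
  have hJfix : ∀ y : G, y ∈ thompsonSubgroupOf 2 T ↔
      (d * g)⁻¹ * y * (d * g) ∈ thompsonSubgroupOf 2 T := by
    intro y
    conv_lhs => rw [← hJhEq, hJh]
    rw [mem_map_conj_iff']
  have hJJ : thompsonSubgroupOf 2 (T.map (MulAut.conj g).toMonoidHom) =
      thompsonSubgroupOf 2 (T.map (MulAut.conj d⁻¹).toMonoidHom) := by
    rw [hJg, hJd]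
    ext x
    rw [mem_map_conj_iff', mem_map_conj_iff', inv_inv, hJfix (d * x * d⁻¹)]
    have e : (d * g)⁻¹ * (d * x * d⁻¹) * (d * g) = g⁻¹ * x * g := by group
    rw [e]
  have hdK : d⁻¹ ∈ Subgroup.normalizer (K : Set G) := hNK (Subgroup.inv_mem _ hd)
  have h1 := Cfsg.Agent.Lib.Helper81.KS12.isJComponent_map_equiv hKJ (MulAut.conj d⁻¹)
  rw [map_conj_eq_of_mem_normalizer hdK] at h1
  exact Cfsg.Agent.Lib.Helper85.KS12.isJComponent_congr hJJ h1

end Cfsg.Agent.Lib.Helper97.KS12
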